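/-
Overgroups of a tensor product of two special linear groups: basic notions.
The space is the space of matrices, a pure tensor being `vecMulVec c w`.
-/
import Mathlib

set_option autoImplicit false
set_option linter.unusedSectionVars false

namespace CfsgLib.MaxSub.TensorLin

open Matrix Module

variable {F : Type*} [Field F] {ι κ : Type*} [Fintype ι] [Fintype κ] [DecidableEq ι] [DecidableEq κ]

local notation "MV" => Matrix ι κ F

/-- An overgroup of the tensor product. -/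
structure TE (G : Subgroup (Matrix ι κ F ≃ₗ[F] Matrix ι κ F)) : Prop where
  tvR : ∀ (μ v : κ → F), v ⬝ᵥ μ = 0 → ∃ g ∈ G, ∀ X, g X = X + vecMulVec (X *ᵥ μ) v
  tvL : ∀ (η c : ι → F), η ⬝ᵥ c = 0 → ∃ g ∈ G, ∀ X, g X = X + vecMulVec c (η ᵥ* X)
  two : 2 ≤ Fintype.card ι
  lt : Fintype.card ι < Fintype.card κ
  small : Fintype.card ι ≠ 2 ∨ ∃ t : F, t ≠ 0 ∧ t ≠ 1

/-- The tensors with a given second factor, as a map. -/
def colMap (w : κ → F) : (ι → F) →ₗ[F] Matrix ι κ F where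
  toFun c := vecMulVec c w
  map_add' a b := add_vecMulVec a b w
  map_smul' t a := smul_vecMulVec t a w

theorem colMap_apply (w : κ → F) (c : ι → F) : colMap (F := F) w c = vecMulVec c w := rfl

/-- The tensors with a given second factor. -/
def Col (w : κ → F) : Submodule F (Matrix ι κ F) := LinearMap.range (colMap w)

theorem mem_col {w : κ → F} {X : MV} : X ∈ Col w ↔ ∃ c, vecMulVec c w = X := LinearMap.mem_range

theorem vm (c : ι → F) (w μ : κ → F) : vecMulVec c w *ᵥ μ = (w ⬝ᵥ μ) • c := by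
  rw [vecMulVec_mulVec, op_smul_eq_smul]

theorem vmv_eq_zero {c : ι → F} {w : κ → F} : vecMulVec c w = 0 ↔ c = 0 ∨ w = 0 := by
  simp only [← Matrix.ext_iff, vecMulVec_apply, Matrix.zero_apply, mul_eq_zero, funext_iff, Pi.zero_apply,
    forall_or_left, forall_or_right]

theorem vmv_zero (c : ι → F) : vecMulVec c (0 : κ → F) = 0 := vmv_eq_zero.2 (Or.inr rfl)

theorem colMap_injective {w : κ → F} (hw : w ≠ 0) :
    Function.Injective (colMap (F := F) (ι := ι) w) := fun c d h => by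
  rw [colMap_apply, colMap_apply, ← sub_eq_zero,
    show vecMulVec c w - vecMulVec d w = vecMulVec (c - d) w from ((colMap w).map_sub c d).symm,
    vmv_eq_zero] at h
  exact sub_eq_zero.1 (h.resolve_right hw)

theorem finrank_col {w : κ → F} (hw : w ≠ 0) :
    finrank F (Col (ι := ι) w) = Fintype.card ι := by
  rw [Col, LinearMap.finrank_range_of_inj (colMap_injective hw), Module.finrank_fintype_fun_eq_card]

/-- Separation. -/
theorem exists_dot {n : Type*} [Fintype n] [DecidableEq n] {S : Submodule F (n → F)} {v : n → F}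
    (hv : v ∉ S) : ∃ μ : n → F, (∀ x ∈ S, x ⬝ᵥ μ = 0) ∧ v ⬝ᵥ μ = 1 := by
  obtain ⟨φ, hφ, hφS⟩ := Submodule.exists_dual_map_eq_bot_of_notMem hv inferInstance
  obtain ⟨μ, hμ⟩ := (dotProductEquiv F n).surjective ((φ v)⁻¹ • φ)
  have e : ∀ x, x ⬝ᵥ μ = (φ v)⁻¹ * φ x := fun x => by
    have := LinearMap.congr_fun hμ x
    rw [dotProductEquiv_apply_apply] at this
    rw [dotProduct_comm, this, LinearMap.smul_apply, smul_eq_mul]
  refine ⟨μ, fun x hx => ?_, by rw [e, inv_mul_cancel₀ hφ]⟩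
  have h0 : φ x = 0 := (Submodule.mem_bot F).1 (hφS ▸ Submodule.mem_map_of_mem hx)
  rw [e, h0, mul_zero]

theorem exists_dot_pair {n : Type*} [Fintype n] [DecidableEq n] {x v : n → F} (hv : v ∉ F ∙ x) :
    ∃ μ : n → F, x ⬝ᵥ μ = 0 ∧ v ⬝ᵥ μ = 1 := by
  obtain ⟨μ, h1, h2⟩ := exists_dot hv
  exact ⟨μ, h1 x (Submodule.mem_span_singleton_self x), h2⟩

theorem exists_dot_one {n : Type*} [Fintype n] [DecidableEq n] {v : n → F} (hv : v ≠ 0) :
    ∃ μ : n → F, v ⬝ᵥ μ = 1 := by
  obtain ⟨μ, -, h⟩ := exists_dot (S := (⊥ : Submodule F (n → F))) (v := v)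
    (by rwa [Submodule.mem_bot])
  exact ⟨μ, h⟩

/-- A non-zero common zero of few linear forms. -/
theorem exists_perp {n : Type*} [Fintype n] [DecidableEq n] {m : ℕ} (h : m < Fintype.card n)
    (x : Fin m → n → F) : ∃ v : n → F, v ≠ 0 ∧ ∀ i, v ⬝ᵥ x i = 0 := by
  let φ : (n → F) →ₗ[F] (Fin m → F) :=
    { toFun := fun v i => v ⬝ᵥ x i
      map_add' := fun a b => funext fun i => add_dotProduct a b (x i)
      map_smul' := fun t a => funext fun i => smul_dotProduct t a (x i) }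
  haveI : Nontrivial (LinearMap.ker φ) := Module.nontrivial_of_finrank_pos (R := F) (by
    have h1 := LinearMap.finrank_range_add_finrank_ker φ
    have h2 := Submodule.finrank_le (LinearMap.range φ)
    rw [Module.finrank_fin_fun] at h2
    rw [Module.finrank_fintype_fun_eq_card] at h1
    omega)
  obtain ⟨⟨v, hv⟩, hv0⟩ := exists_ne (0 : LinearMap.ker φ)
  exact ⟨v, fun h => hv0 (Subtype.ext h), fun i => congrFun (LinearMap.mem_ker.1 hv) i⟩

/-- A vector perpendicular to `μ` outside a line. -/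
theorem exists_perp_notMem {n : Type*} [Fintype n] [DecidableEq n] (h : 3 ≤ Fintype.card n)
    (μ v : n → F) : ∃ x : n → F, x ⬝ᵥ μ = 0 ∧ x ∉ F ∙ v := by
  by_contra hc
  push Not at hc
  obtain ⟨x, hx0, hx⟩ := exists_perp (F := F) (n := n) (m := 1) (by omega) ![μ]
  have hxv := hc x (hx 0)
  obtain ⟨y, hy⟩ := exists_dot_one hx0
  obtain ⟨z, hz0, hz⟩ := exists_perp (F := F) (n := n) (m := 2) (by omega) ![μ, y]
  obtain ⟨a, ha⟩ := Submodule.mem_span_singleton.1 hxv
  obtain ⟨b, hb⟩ := Submodule.mem_span_singleton.1 (hc z (hz 0))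
  have h2 : z ⬝ᵥ y = 0 := hz 1
  have ha0 : a ≠ 0 := fun h => hx0 (by rw [← ha, h, zero_smul])
  rw [← ha, smul_dotProduct] at hy
  rw [← hb, smul_dotProduct, smul_eq_mul] at h2
  rcases mul_eq_zero.1 h2 with h | h
  · exact hz0 (by rw [← hb, h, zero_smul])
  · rw [h, smul_zero] at hy; exact zero_ne_one hy

theorem col_of_mulVec {w : κ → F} {X : MV} (h : ∀ μ, w ⬝ᵥ μ = 0 → X *ᵥ μ = 0) :
    X ∈ Col w := by
  have hrow : ∀ i, X i ∈ F ∙ w := fun i => by
    by_contra hc
    obtain ⟨μ, h1, h2⟩ := exists_dot_pair hc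
    have := congrFun (h μ h1) i
    rw [show (X *ᵥ μ) i = X i ⬝ᵥ μ from rfl, h2] at this
    exact one_ne_zero this
  choose c hc using fun i => Submodule.mem_span_singleton.1 (hrow i)
  refine mem_col.2 ⟨c, ?_⟩
  ext i j
  rw [vecMulVec_apply, ← hc i]
  rfl

/-- A member. -/
def Mem (G : Subgroup (Matrix ι κ F ≃ₗ[F] Matrix ι κ F)) (M : Submodule F (Matrix ι κ F)) : Prop :=
  ∃ g ∈ G, ∃ w : κ → F, w ≠ 0 ∧ M = (Col w).map g.toLinearMap

/-- A subspace not of pure type. -/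
def NP (M : Submodule F (Matrix ι κ F)) : Prop := ∀ v : κ → F, M ≠ Col v

variable {G : Subgroup (Matrix ι κ F ≃ₗ[F] Matrix ι κ F)}

theorem mem_finrank {M : Submodule F MV} (h : Mem G M) : finrank F M = Fintype.card ι := by
  obtain ⟨g, -, w, hw, rfl⟩ := h
  rw [LinearEquiv.finrank_map_eq, finrank_col hw]

theorem mem_map {M : Submodule F MV} (h : Mem G M) {g : MV ≃ₗ[F] MV} (hg : g ∈ G) :
    Mem G (M.map g.toLinearMap) := by
  obtain ⟨g', hg', w, hw, rfl⟩ := h
  refine ⟨g * g', mul_mem hg hg', w, hw, ?_⟩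
  rw [← Submodule.map_comp]
  rfl

theorem mem_col_self {w : κ → F} (hw : w ≠ 0) : Mem G (Col (ι := ι) w) :=
  ⟨1, one_mem G, w, hw, (Submodule.map_id _).symm⟩

theorem eq_of_le {M N : Submodule F MV} (hM : Mem G M) (hN : Mem G N) (h : M ≤ N) : M = N :=
  Submodule.eq_of_le_of_finrank_eq h (by rw [mem_finrank hM, mem_finrank hN])

theorem map_map_inv {g : MV ≃ₗ[F] MV} (U : Submodule F MV) :
    (U.map g.toLinearMap).map (g⁻¹ : MV ≃ₗ[F] MV).toLinearMap = U := by
  rw [← Submodule.map_comp]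
  refine Eq.trans ?_ (Submodule.map_id U)
  congr 1
  exact LinearMap.ext fun x => g.symm_apply_apply x

/-- A member meeting a pure one is that one or is not pure. -/
theorem np_of_meet {M : Submodule F MV} {w : κ → F} (hw : w ≠ 0) (hM : Mem G M) (hne : M ≠ Col w)
    (h : M ⊓ Col w ≠ ⊥) : NP M := by
  intro v hv
  obtain ⟨X, hX, hX0⟩ := (Submodule.ne_bot_iff _).1 h
  obtain ⟨hX1, hX2⟩ := hX
  rw [hv] at hX1
  obtain ⟨c, rfl⟩ := mem_col.1 hX1
  refine hne (eq_of_le hM (mem_col_self hw) ?_)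
  rw [hv]
  rintro Y hY
  obtain ⟨d, rfl⟩ := mem_col.1 hY
  refine col_of_mulVec fun μ hμ => ?_
  obtain ⟨c', hc'⟩ := mem_col.1 hX2
  have h1 := congrArg (fun Z : MV => Z *ᵥ μ) hc'
  simp only [vm, hμ, zero_smul] at h1
  have hc : c ≠ 0 := fun e => hX0 (by rw [e, zero_vecMulVec])
  rw [vm, (smul_eq_zero.1 h1.symm).resolve_right hc, zero_smul]

section

variable (O : TE G)
include O

theorem three : 3 ≤ Fintype.card κ := by
  have := O.two
  have := O.lt
  omega

/-- Pure members are conjugate. -/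
theorem col_move {w w' : κ → F} (hw : w ≠ 0) (hw' : w' ≠ 0) :
    ∃ g ∈ G, (Col (ι := ι) w).map g.toLinearMap = Col w' := by
  by_cases h : w' ∈ F ∙ w
  · obtain ⟨a, rfl⟩ := Submodule.mem_span_singleton.1 h
    refine ⟨1, one_mem G, (Submodule.map_id _).trans ?_⟩
    refine (eq_of_le (G := G) (mem_col_self hw') (mem_col_self hw) fun Y hY => ?_).symm
    obtain ⟨d, rfl⟩ := mem_col.1 hY
    exact mem_col.2 ⟨a • d, by rw [smul_vecMulVec, vecMulVec_smul]⟩
  · have hw2 : w ∉ F ∙ (w' - w) := fun hm => h (by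
      obtain ⟨a, ha⟩ := Submodule.mem_span_singleton.1 hm
      have ha0 : a ≠ 0 := fun e => hw (by rw [← ha, e, zero_smul])
      refine Submodule.mem_span_singleton.2 ⟨a⁻¹ + 1, ?_⟩
      rw [add_smul, one_smul]
      nth_rw 1 [← ha]
      rw [smul_smul, inv_mul_cancel₀ ha0, one_smul, sub_add_cancel])
    obtain ⟨μ, hμ1, hμ2⟩ := exists_dot_pair hw2
    obtain ⟨g, hg, hgX⟩ := O.tvR μ (w' - w) hμ1
    refine ⟨g, hg, eq_of_le (mem_map (mem_col_self hw) hg) (mem_col_self hw') ?_⟩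
    rintro _ ⟨Y, hY, rfl⟩
    obtain ⟨d, rfl⟩ := mem_col.1 hY
    refine mem_col.2 ⟨d, ?_⟩
    show vecMulVec d w' = g (vecMulVec d w)
    rw [hgX, vm, hμ2, one_smul, ← vecMulVec_add, add_sub_cancel]

/-- A member is the image of any given pure one. -/
theorem mem_std {M : Submodule F MV} (h : Mem G M) {w : κ → F} (hw : w ≠ 0) :
    ∃ g ∈ G, M = (Col w).map g.toLinearMap := by
  obtain ⟨g, hg, w', hw', rfl⟩ := h
  obtain ⟨t, ht, he⟩ := col_move O hw hw'
  refine ⟨g * t, mul_mem hg ht, ?_⟩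
  rw [← he, ← Submodule.map_comp]
  rfl

/-- Normalising the second of two members. -/
theorem pairs {M N : Submodule F MV} (hM : Mem G M) (hN : Mem G N) {w : κ → F} (hw : w ≠ 0) :
    ∃ g ∈ G, Mem G (M.map g.toLinearMap) ∧ N.map g.toLinearMap = Col w := by
  obtain ⟨g, hg, rfl⟩ := mem_std O hN hw
  exact ⟨g⁻¹, inv_mem hg, mem_map hM (inv_mem hg), map_map_inv _⟩

end

end CfsgLib.MaxSub.TensorLin
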