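/-
A member with a deficient row space gives all transvections.
-/
import Cfsg.Agent.Lib.MaxSub.TensorLin.Basic

set_option autoImplicit false
set_option maxHeartbeats 400000
set_option linter.unusedSectionVars false

namespace CfsgLib.MaxSub.TensorLin

open Matrix Module

variable {F : Type*} [Field F] {ι κ : Type*} [Fintype ι] [Fintype κ] [DecidableEq ι] [DecidableEq κ]
  {G : Subgroup (Matrix ι κ F ≃ₗ[F] Matrix ι κ F)}

local notation "MV" => Matrix ι κ F

/-- The element `1 + Y` lies in the group. -/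
def UI (G : Subgroup (Matrix ι κ F ≃ₗ[F] Matrix ι κ F)) (Y : Matrix ι κ F →ₗ[F] Matrix ι κ F) : Prop :=
  ∃ g ∈ G, ∀ X, g X = X + Y X

/-- The commutator of two quadratic elements. -/
theorem ui_comm {A B : MV →ₗ[F] MV} (hA : UI G A) (hB : UI G B) (hAA : ∀ X, A (A X) = 0)
    (hBB : ∀ X, B (B X) = 0) (hBA : ∀ X, B (A X) = 0) : UI G (A ∘ₗ B) := by
  obtain ⟨t, ht, htX⟩ := hA
  obtain ⟨u, hu, huX⟩ := hB
  have ht' : ∀ X, t.symm X = X - A X := fun X => t.injective (by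
    rw [t.apply_symm_apply, htX, map_sub, hAA, sub_zero, sub_add_cancel])
  have hu' : ∀ X, u.symm X = X - B X := fun X => u.injective (by
    rw [u.apply_symm_apply, huX, map_sub, hBB, sub_zero, sub_add_cancel])
  refine ⟨t * u * t⁻¹ * u⁻¹, mul_mem (mul_mem (mul_mem ht hu) (inv_mem ht)) (inv_mem hu), fun X => ?_⟩
  show t (u (t.symm (u.symm X))) = _
  rw [hu', ht', huX, htX]
  simp only [map_sub, map_add, hAA, hBB, hBA, map_zero, LinearMap.comp_apply]
  abel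

theorem ui_add {A B : MV →ₗ[F] MV} (hA : UI G A) (hB : UI G B) (hAB : ∀ X, A (B X) = 0) :
    UI G (A + B) := by
  obtain ⟨t, ht, htX⟩ := hA
  obtain ⟨u, hu, huX⟩ := hB
  refine ⟨t * u, mul_mem ht hu, fun X => ?_⟩
  show t (u X) = _
  rw [htX, huX, map_add, hAB, LinearMap.add_apply]
  abel

theorem ui_zero : UI G (0 : MV →ₗ[F] MV) := ⟨1, one_mem G, fun X => by simp⟩

/-- Multiplying with a vector. -/
def mvMap (μ : κ → F) : Matrix ι κ F →ₗ[F] (ι → F) where
  toFun X := X *ᵥ μ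
  map_add' X Y := add_mulVec X Y μ
  map_smul' t X := smul_mulVec t X μ

/-- The right factor elements. -/
def rMap (μ v : κ → F) : Matrix ι κ F →ₗ[F] Matrix ι κ F :=
  (colMap v).comp (mvMap μ)

theorem rMap_apply (μ v : κ → F) (X : MV) : rMap μ v X = vecMulVec (X *ᵥ μ) v := rfl

/-- The map of an endomorphism of the first factor with vector and functional on the second. -/
def tMap (T : (ι → F) →ₗ[F] (ι → F)) (μ v : κ → F) : Matrix ι κ F →ₗ[F] Matrix ι κ F :=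
  (colMap v).comp (T.comp (mvMap μ))

theorem tMap_apply (T : (ι → F) →ₗ[F] (ι → F)) (μ v : κ → F) (X : MV) :
    tMap T μ v X = vecMulVec (T (X *ᵥ μ)) v := rfl

/-- `1 + T ⊗ (μ, v)` lies in the group. -/
def TIn (G : Subgroup (Matrix ι κ F ≃ₗ[F] Matrix ι κ F)) (T : (ι → F) →ₗ[F] (ι → F)) (μ v : κ → F) :
    Prop := UI G (tMap T μ v)

/-- In the group for every perpendicular pair. -/
def TT (G : Subgroup (Matrix ι κ F ≃ₗ[F] Matrix ι κ F)) (T : (ι → F) →ₗ[F] (ι → F)) : Prop :=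
  ∀ μ v : κ → F, v ⬝ᵥ μ = 0 → TIn G T μ v

/-- A transvection of the whole space lies in the group. -/
def TrIn (G : Subgroup (Matrix ι κ F ≃ₗ[F] Matrix ι κ F)) (η c : ι → F) (μ v : κ → F) : Prop :=
  ∃ g ∈ G, ∀ X, g X = X + (η ⬝ᵥ (X *ᵥ μ)) • vecMulVec c v

section

variable (O : TE G)
include O

theorem ui_rMap {μ v : κ → F} (h : v ⬝ᵥ μ = 0) : UI G (rMap (ι := ι) μ v) := O.tvR μ v h

/-- A member with deficient rows. -/
theorem exists_phi (h : ∃ M, Mem G M ∧ NP M ∧ ∃ μ : κ → F, μ ≠ 0 ∧ ∀ X ∈ M, X *ᵥ μ = 0) :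
    ∃ (T : (ι → F) →ₗ[F] (ι → F)) (μ v : κ → F), μ ≠ 0 ∧ v ≠ 0 ∧ v ⬝ᵥ μ = 0 ∧
      (∀ s : F, ∃ c, T c ≠ s • c) ∧ TIn G T μ v := by
  obtain ⟨M, hM, hnp, μ, hμ0, hμ⟩ := h
  obtain ⟨g, hg, w, hw, rfl⟩ := id hM
  obtain ⟨w₀, hw₀, hw₀μ⟩ := exists_perp (F := F) (n := κ) (m := 1) (by have := three O; omega) ![μ]
  have hw₀μ' : w₀ ⬝ᵥ μ = 0 := hw₀μ 0
  obtain ⟨c₁, μ', hμ', hne⟩ : ∃ (c : ι → F) (μ' : κ → F), w ⬝ᵥ μ' = 0 ∧
      g.symm (vecMulVec c w₀) *ᵥ μ' ≠ 0 := by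
    by_contra hc
    push Not at hc
    refine hnp w₀ (eq_of_le (mem_col_self hw₀) hM fun Y hY => ?_).symm
    obtain ⟨c, rfl⟩ := mem_col.1 hY
    exact ⟨g.symm (vecMulVec c w₀), col_of_mulVec fun μ' hμ' => hc c μ' hμ', g.apply_symm_apply _⟩
  let D : MV →ₗ[F] MV := g.toLinearMap ∘ₗ rMap μ' w ∘ₗ g.symm.toLinearMap
  have hD : ∀ X, D X = g (vecMulVec (g.symm X *ᵥ μ') w) := fun X => rfl
  have hDmem : ∀ X, D X *ᵥ μ = 0 := fun X => hμ _ ⟨_, mem_col.2 ⟨_, rfl⟩, rfl⟩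
  have hUD : UI G D := by
    obtain ⟨t, ht, htX⟩ := O.tvR μ' w hμ'
    refine ⟨g * t * g⁻¹, mul_mem (mul_mem hg ht) (inv_mem hg), fun X => ?_⟩
    show g (t (g.symm X)) = _
    rw [htX, map_add, g.apply_symm_apply]
    rfl
  have hDD : ∀ X, D (D X) = 0 := fun X => by
    rw [hD, hD, g.symm_apply_apply, vm, hμ', zero_smul, zero_vecMulVec, map_zero]
  have hPP : ∀ X : MV, rMap μ w₀ (rMap μ w₀ X) = 0 := fun X => by
    rw [rMap_apply, rMap_apply, vm, hw₀μ', zero_smul, zero_vecMulVec]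
  have hPD : ∀ X, rMap μ w₀ (D X) = 0 := fun X => by rw [rMap_apply, hDmem, zero_vecMulVec]
  have hY : UI G (D ∘ₗ rMap μ w₀) := ui_comm hUD (ui_rMap O hw₀μ') hDD hPP hPD
  let Φ : (ι → F) →ₗ[F] MV := D ∘ₗ colMap w₀
  have hΦμ : ∀ c, Φ c *ᵥ μ = 0 := fun c => hDmem _
  have hΦpure : ∀ v, ∃ c, Φ c ≠ vecMulVec c v := by
    intro v
    by_contra hc
    push Not at hc
    rcases eq_or_ne v 0 with rfl | hv
    · have h1 := hc c₁
      rw [vmv_zero] at h1
      have h2 : g (vecMulVec (g.symm (vecMulVec c₁ w₀) *ᵥ μ') w) = 0 := h1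
      rw [g.map_eq_zero_iff, vmv_eq_zero] at h2
      exact h2.elim hne hw
    · refine hnp v (eq_of_le (mem_col_self hv) hM fun Y hY' => ?_).symm
      obtain ⟨c, rfl⟩ := mem_col.1 hY'
      rw [← hc c]
      exact ⟨_, mem_col.2 ⟨_, rfl⟩, rfl⟩
  -- reduce to a single vector of the second factor
  obtain ⟨μ₂, hμ₂⟩ : ∃ μ₂ : κ → F, ∀ s : F, ∃ c, Φ c *ᵥ μ₂ ≠ s • c := by
    by_contra hc
    push Not at hc
    choose s hs using hc
    haveI : Nonempty ι := Fintype.card_pos_iff.1 (by have := O.two; omega)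
    obtain ⟨i₀⟩ := ‹Nonempty ι›
    set v : κ → F := Φ (Pi.single i₀ 1) i₀ with hv
    have hsv : ∀ μ₂, s μ₂ = v ⬝ᵥ μ₂ := fun μ₂ => by
      have := congrFun (hs μ₂ (Pi.single i₀ 1)) i₀
      rw [Pi.smul_apply, Pi.single_eq_same, smul_eq_mul, mul_one] at this
      exact this.symm
    obtain ⟨c, hc'⟩ := hΦpure v
    refine hc' ?_
    ext i j
    have h1 := congrFun (hs (Pi.single j 1) c) i
    rw [hsv, mulVec_single_one, dotProduct_single_one] at h1
    rw [vecMulVec_apply, mul_comm]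
    exact h1
  obtain ⟨x, hx0, hx⟩ := exists_perp (F := F) (n := κ) (m := 2) (by have := three O; omega) ![μ, μ₂]
  have hxμ : x ⬝ᵥ μ = 0 := hx 0
  have hxμ₂ : x ⬝ᵥ μ₂ = 0 := hx 1
  refine ⟨{ toFun := fun c => Φ c *ᵥ μ₂
            map_add' := fun a b => by rw [map_add, add_mulVec]
            map_smul' := fun t a => by rw [map_smul, smul_mulVec]; rfl }, μ, x, hμ0, hx0, hxμ, hμ₂, ?_⟩
  have h := ui_comm (ui_rMap O hxμ₂) hY
    (fun X => by rw [rMap_apply, rMap_apply, vm, hxμ₂, zero_smul, zero_vecMulVec])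
    (fun X => by
      show D (rMap μ w₀ (D (rMap μ w₀ X))) = 0
      rw [hPD, map_zero])
    (fun X => by
      show D (rMap μ w₀ (rMap μ₂ x X)) = 0
      rw [rMap_apply μ w₀, rMap_apply, vm, hxμ, zero_smul, zero_vecMulVec, map_zero])
  exact h

/-- Changing the vector. -/
theorem move_v {T : (ι → F) →ₗ[F] (ι → F)} {μ v x : κ → F} (h : TIn G T μ v) (hv : v ⬝ᵥ μ = 0)
    (hx : x ⬝ᵥ μ = 0) (hvx : v ∉ F ∙ x) (s : F) : TIn G (s • T) μ x := by
  obtain ⟨ν, hν1, hν2⟩ := exists_dot_pair hvx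
  have h' := ui_comm (ui_rMap O (μ := s • ν) (v := x) (by rw [dotProduct_smul, hν1, smul_zero])) h
    (fun X => by rw [rMap_apply, rMap_apply, vm, dotProduct_smul, hν1, smul_zero, zero_smul, zero_vecMulVec])
    (fun X => by rw [tMap_apply, tMap_apply, vm, hv, zero_smul, map_zero, zero_vecMulVec])
    (fun X => by rw [tMap_apply, rMap_apply, vm, hx, zero_smul, map_zero, zero_vecMulVec])
  obtain ⟨g, hg, hgX⟩ := h'
  refine ⟨g, hg, fun X => ?_⟩
  rw [hgX, LinearMap.comp_apply, rMap_apply, tMap_apply, tMap_apply, vm, dotProduct_smul, hν2,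
    smul_eq_mul, mul_one, LinearMap.smul_apply]

/-- Changing the functional. -/
theorem move_μ {T : (ι → F) →ₗ[F] (ι → F)} {μ v ν : κ → F} (h : TIn G T μ v) (hv : v ⬝ᵥ μ = 0)
    (hν : v ⬝ᵥ ν = 0) (hμν : μ ∉ F ∙ ν) (s : F) : TIn G (s • T) ν v := by
  obtain ⟨x, hx1, hx2⟩ := exists_dot_pair hμν
  have e1 : (s • x) ⬝ᵥ ν = 0 := by rw [smul_dotProduct, dotProduct_comm, hx1, smul_zero]
  have h' := ui_comm h (ui_rMap O e1)
    (fun X => by rw [tMap_apply, tMap_apply, vm, hv, zero_smul, map_zero, zero_vecMulVec])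
    (fun X => by rw [rMap_apply, rMap_apply, vm, e1, zero_smul, zero_vecMulVec])
    (fun X => by rw [rMap_apply, tMap_apply, vm, hν, zero_smul, zero_vecMulVec])
  obtain ⟨g, hg, hgX⟩ := h'
  refine ⟨g, hg, fun X => ?_⟩
  rw [hgX, LinearMap.comp_apply, rMap_apply, tMap_apply, tMap_apply, vm, smul_dotProduct,
    dotProduct_comm x μ, hx2, smul_eq_mul, mul_one, map_smul, LinearMap.smul_apply]

theorem tIn_scale {T : (ι → F) →ₗ[F] (ι → F)} {μ v : κ → F} (h : TIn G T μ v) (hv : v ⬝ᵥ μ = 0)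
    (hv0 : v ≠ 0) {x : κ → F} (hx : x ⬝ᵥ μ = 0) : ∀ s : F, TIn G (s • T) μ x := by
  intro s
  by_cases hvx : v ∈ F ∙ x
  · obtain ⟨y, hy, hyv⟩ := exists_perp_notMem (three O) μ v
    obtain ⟨a, rfl⟩ := Submodule.mem_span_singleton.1 hvx
    have hx0 : x ≠ 0 := fun e => hv0 (by rw [e, smul_zero])
    have ha : a ≠ 0 := fun e => hv0 (by rw [e, zero_smul])
    have h1 := move_v O h hv hy (fun hm => hyv (by
      obtain ⟨b, hb⟩ := Submodule.mem_span_singleton.1 hm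
      have hb0 : b ≠ 0 := fun e => hv0 (by rw [← hb, e, zero_smul])
      exact Submodule.mem_span_singleton.2 ⟨b⁻¹, by rw [← hb, smul_smul, inv_mul_cancel₀ hb0, one_smul]⟩)) 1
    rw [one_smul] at h1
    exact move_v O h1 hy hx (fun hm => hyv (by
      obtain ⟨b, hb⟩ := Submodule.mem_span_singleton.1 hm
      exact Submodule.mem_span_singleton.2 ⟨b / a, by rw [← hb, smul_smul, div_mul_cancel₀ b ha]⟩)) s
  · exact move_v O h hv hx hvx s

theorem tt_of {T : (ι → F) →ₗ[F] (ι → F)} {μ v : κ → F} (h : TIn G T μ v) (hv : v ⬝ᵥ μ = 0)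
    (hμ0 : μ ≠ 0) (hv0 : v ≠ 0) : TT G T := by
  intro ν x hx
  rcases eq_or_ne x 0 with rfl | hx0
  · exact ⟨1, one_mem G, fun X => by simp [tMap_apply, vmv_zero]⟩
  rcases eq_or_ne ν 0 with rfl | hν0
  · exact ⟨1, one_mem G, fun X => by simp [tMap_apply, vmv_zero]⟩
  obtain ⟨y, hy0, hy⟩ := exists_perp (F := F) (n := κ) (m := 2) (by have := three O; omega) ![μ, ν]
  have h1 := tIn_scale O h hv hv0 (x := y) (hy 0)
  have h2 : TIn G T ν y := by
    by_cases hm : μ ∈ F ∙ ν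
    · obtain ⟨a, rfl⟩ := Submodule.mem_span_singleton.1 hm
      have ha : a ≠ 0 := fun e => hμ0 (by rw [e, zero_smul])
      obtain ⟨g, hg, hgX⟩ := h1 a⁻¹
      refine ⟨g, hg, fun X => ?_⟩
      rw [hgX, tMap_apply, tMap_apply, mulVec_smul, LinearMap.smul_apply, map_smul, smul_smul,
        inv_mul_cancel₀ ha, one_smul]
    · have h3 := h1 1
      rw [one_smul] at h3
      have := move_μ O h3 (hy 0) (hy 1) hm 1
      rwa [one_smul] at this
  have := tIn_scale O h2 (hy 1) hy0 hx 1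
  rwa [one_smul] at this

/-- The endomorphisms occurring form a subspace. -/
def ttSub : Submodule F ((ι → F) →ₗ[F] (ι → F)) where
  carrier := {T | TT G T}
  zero_mem' μ v _ := ⟨1, one_mem G, fun X => by simp [tMap_apply]⟩
  add_mem' {S T} hS hT μ v hv := by
    obtain ⟨g, hg, hgX⟩ := ui_add (hS μ v hv) (hT μ v hv)
      (fun X => by rw [tMap_apply, tMap_apply, vm, hv, zero_smul, map_zero, zero_vecMulVec])
    refine ⟨g, hg, fun X => ?_⟩
    rw [hgX, LinearMap.add_apply, tMap_apply, tMap_apply, tMap_apply, LinearMap.add_apply, add_vecMulVec]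
  smul_mem' t T hT μ v hv := by
    obtain ⟨g, hg, hgX⟩ := hT μ (t • v) (by rw [smul_dotProduct, hv, smul_zero])
    refine ⟨g, hg, fun X => ?_⟩
    rw [hgX, tMap_apply, tMap_apply, LinearMap.smul_apply, smul_vecMulVec, vecMulVec_smul]

theorem tt_one : TT G (LinearMap.id : (ι → F) →ₗ[F] (ι → F)) := fun μ v hv => O.tvR μ v hv

/-- Conjugation by a transvection of the first factor. -/
theorem tt_conj {T T' : (ι → F) →ₗ[F] (ι → F)} (hT : TT G T) {η c : ι → F} (hηc : η ⬝ᵥ c = 0)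
    (h : ∀ d, T' d = T (d - (η ⬝ᵥ d) • c) + (η ⬝ᵥ T (d - (η ⬝ᵥ d) • c)) • c) : TT G T' := by
  intro μ v hv
  obtain ⟨L, hL, hLX⟩ := O.tvL η c hηc
  obtain ⟨g, hg, hgX⟩ := hT μ v hv
  refine ⟨L * g * L⁻¹, mul_mem (mul_mem hL hg) (inv_mem hL), fun X => ?_⟩
  obtain ⟨Y, rfl⟩ := L.surjective X
  show L (g (L.symm (L Y))) = _
  rw [L.symm_apply_apply, hgX, map_add, tMap_apply, tMap_apply, hLX (vecMulVec _ v), hLX Y,
    add_mulVec, vm, h]
  have e : η ⬝ᵥ (Y *ᵥ μ) = (η ᵥ* Y) ⬝ᵥ μ := dotProduct_mulVec η Y μ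
  have e2 : (Y *ᵥ μ + (η ᵥ* Y ⬝ᵥ μ) • c - (η ⬝ᵥ (Y *ᵥ μ + (η ᵥ* Y ⬝ᵥ μ) • c)) • c) = Y *ᵥ μ := by
    rw [dotProduct_add, dotProduct_smul, hηc, smul_zero, add_zero, e, add_sub_cancel_right]
  rw [e2, vecMul_vecMulVec, vecMulVec_smul, ← smul_vecMulVec, add_vecMulVec]

/-- One nilpotent endomorphism of rank one. -/
theorem exists_e {T : (ι → F) →ₗ[F] (ι → F)} (hT : TT G T) (hns : ∀ s : F, ∃ c, T c ≠ s • c) :
    ∃ η c : ι → F, η ≠ 0 ∧ c ≠ 0 ∧ η ⬝ᵥ c = 0 ∧
      ∀ E : (ι → F) →ₗ[F] (ι → F), (∀ d, E d = (η ⬝ᵥ d) • c) → TT G E := by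
  obtain ⟨c, hc⟩ : ∃ c, T c ∉ F ∙ c := by
    by_contra hcon
    push Not at hcon
    simp only [Submodule.mem_span_singleton] at hcon
    choose s hs using hcon
    haveI : Nonempty ι := Fintype.card_pos_iff.1 (by have := O.two; omega)
    obtain ⟨i₀⟩ := ‹Nonempty ι›
    obtain ⟨d, hd⟩ := hns (s (Pi.single i₀ 1))
    refine hd ?_
    have key : ∀ x y : ι → F, x ≠ 0 → y ∉ F ∙ x → s x = s y := fun x y hx hy => by
      have h := hs (x + y)
      rw [map_add, ← hs x, ← hs y, smul_add] at h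
      have h1 : s (x + y) = s y := by
        by_contra hne
        refine hy (Submodule.mem_span_singleton.2 ⟨(s x - s (x + y)) / (s (x + y) - s y), ?_⟩)
        have : (s x - s (x + y)) • x = (s (x + y) - s y) • y := by
          linear_combination (norm := module) -h
        rw [div_eq_inv_mul, mul_smul, this, smul_smul, inv_mul_cancel₀ (sub_ne_zero.2 hne), one_smul]
      rw [h1] at h
      exact smul_left_injective F hx (show s x • x = s y • x by
        linear_combination (norm := module) -h)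
    by_cases hd0 : d = 0
    · rw [hd0, map_zero, smul_zero]
    have hsingle : (Pi.single i₀ 1 : ι → F) ≠ 0 := by simp
    by_cases hm : d ∈ F ∙ (Pi.single i₀ 1 : ι → F)
    · obtain ⟨a, rfl⟩ := Submodule.mem_span_singleton.1 hm
      rw [map_smul, ← hs (Pi.single i₀ 1), smul_comm]
    · rw [← hs d, key _ d hsingle hm]
  have hc0 : c ≠ 0 := fun e => hc (by rw [e, map_zero]; exact zero_mem _)
  obtain ⟨η, hη, hηT⟩ := exists_dot_pair hc
  rw [dotProduct_comm] at hη hηT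
  have hη0 : η ≠ 0 := fun e => by rw [e, zero_dotProduct] at hηT; exact zero_ne_one hηT
  have key : ∀ t : F, ∀ D : (ι → F) →ₗ[F] (ι → F),
      (∀ d, D d = t • ((η ⬝ᵥ T d) • c - (η ⬝ᵥ d) • T c) - (t * t) • ((η ⬝ᵥ d) • c)) → TT G D := by
    intro t D hD
    have h1 := tt_conj O hT (T' := T + D) (η := t • η) (c := c)
      (by rw [smul_dotProduct, hη, smul_zero])
      (fun d => by
        rw [LinearMap.add_apply, hD, map_sub, map_smul]
        simp only [smul_dotProduct, dotProduct_sub, dotProduct_smul, hηT, smul_eq_mul]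
        module)
    have := (ttSub (G := G)).sub_mem h1 hT
    rwa [add_sub_cancel_left] at this
  obtain ⟨P, hP⟩ : ∃ P : (ι → F) →ₗ[F] (ι → F), ∀ d, P d = (η ⬝ᵥ T d) • c - (η ⬝ᵥ d) • T c :=
    ⟨((dotProductEquiv F ι η).comp T).smulRight c - (dotProductEquiv F ι η).smulRight (T c), fun d => rfl⟩
  obtain ⟨E₀, hE₀⟩ : ∃ E₀ : (ι → F) →ₗ[F] (ι → F), ∀ d, E₀ d = (η ⬝ᵥ d) • c :=
    ⟨(dotProductEquiv F ι η).smulRight c, fun d => rfl⟩
  have hY : TT G (P - E₀) := key 1 _ fun d => by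
    rw [LinearMap.sub_apply, hP, hE₀, one_smul, one_mul, one_smul]
  by_cases h3 : 3 ≤ Fintype.card ι
  · obtain ⟨η', hη'0, hη'⟩ := exists_perp (F := F) (n := ι) (m := 2) (by omega) ![c, T c]
    have e1 : η' ⬝ᵥ c = 0 := hη' 0
    have e2 : η' ⬝ᵥ T c = 0 := hη' 1
    refine ⟨η', c, hη'0, hc0, e1, fun E hE => ?_⟩
    have h1 := tt_conj O hY (T' := P - E₀ - E) (η := η') (c := c) e1 (fun d => by
      simp only [LinearMap.sub_apply, hP, hE₀, hE, map_sub, map_smul, dotProduct_sub, dotProduct_smul,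
        hη, hηT, e1, e2, smul_eq_mul]
      module)
    have := (ttSub (G := G)).sub_mem hY h1
    rwa [sub_sub_cancel] at this
  · obtain ⟨t, ht0, ht1⟩ := O.small.resolve_left (by have := O.two; omega)
    refine ⟨η, c, hη0, hc0, hη, fun E hE => ?_⟩
    have hD : TT G (t • P - (t * t) • E₀) := key t _ fun d => by
      rw [LinearMap.sub_apply, LinearMap.smul_apply, LinearMap.smul_apply, hP, hE₀]
    have h1 := (ttSub (G := G)).smul_mem (t - t * t)⁻¹ ((ttSub (G := G)).sub_mem hD ((ttSub (G := G)).smul_mem t hY))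
    have e : (t - t * t)⁻¹ • (t • P - (t * t) • E₀ - t • (P - E₀)) = E := by
      refine LinearMap.ext fun d => ?_
      rw [hE, ← hE₀, LinearMap.smul_apply, LinearMap.sub_apply, LinearMap.sub_apply,
        LinearMap.smul_apply, LinearMap.smul_apply, LinearMap.smul_apply, LinearMap.sub_apply]
      rw [show t • P d - (t * t) • E₀ d - t • (P d - E₀ d) = (t - t * t) • E₀ d by module, smul_smul,
        inv_mul_cancel₀ (sub_ne_zero.2 fun e => ht1 (mul_right_cancel₀ ht0 (by rw [one_mul]; exact e.symm))),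
        one_smul]
    exact e ▸ h1

omit O in
theorem rk_apply (η c d : ι → F) : (dotProductEquiv F ι η).smulRight c d = (η ⬝ᵥ d) • c := rfl

/-- Every nilpotent endomorphism of rank one. -/
theorem e_all {T : (ι → F) →ₗ[F] (ι → F)} (hT : TT G T) (hns : ∀ s : F, ∃ c, T c ≠ s • c)
    (η c : ι → F) (hηc : η ⬝ᵥ c = 0) :
    TT G ((dotProductEquiv F ι η).smulRight c) := by
  obtain ⟨E, hE', hE⟩ : ∃ E : (ι → F) → (ι → F) → (ι → F) →ₗ[F] (ι → F),
      (dotProductEquiv F ι η).smulRight c = E η c ∧ ∀ η c d, E η c d = (η ⬝ᵥ d) • c :=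
    ⟨fun η c => (dotProductEquiv F ι η).smulRight c, rfl, fun η c d => rfl⟩
  rw [hE']
  have hscal : ∀ (η c : ι → F) (s : F), TT G (E η c) → TT G (E (s • η) c) ∧ TT G (E η (s • c)) := fun η c s h => by
    have e1 : E (s • η) c = s • E η c := LinearMap.ext fun d => by
      rw [LinearMap.smul_apply, hE, hE, smul_dotProduct, smul_smul, smul_eq_mul]
    have e2 : E η (s • c) = s • E η c := LinearMap.ext fun d => by
      rw [LinearMap.smul_apply, hE, hE, smul_comm]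
    exact ⟨e1 ▸ (ttSub (G := G)).smul_mem s h, e2 ▸ (ttSub (G := G)).smul_mem s h⟩
  -- conjugates
  have hconj : ∀ η c η' v, TT G (E η c) → η' ⬝ᵥ v = 0 →
      TT G (E (η - (η ⬝ᵥ v) • η') (c + (η' ⬝ᵥ c) • v)) := fun η c η' v h hv => by
    refine tt_conj O h (η := η') (c := v) hv fun d => ?_
    simp only [hE, sub_dotProduct, smul_dotProduct, dotProduct_sub, dotProduct_smul, smul_eq_mul]
    module
  obtain ⟨η₁, c₁, hη₁, hc₁, hη₁c₁, hE₁⟩ := exists_e O hT hns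
  have h₁ : TT G (E η₁ c₁) := hE₁ _ fun d => hE η₁ c₁ d
  rcases eq_or_ne c 0 with rfl | hc
  · rw [show E η 0 = 0 from LinearMap.ext fun d => by rw [hE, smul_zero, LinearMap.zero_apply]]
    exact (ttSub (G := G)).zero_mem
  rcases eq_or_ne η 0 with rfl | hη
  · rw [show E 0 c = 0 from LinearMap.ext fun d => by
      rw [hE, zero_dotProduct, zero_smul, LinearMap.zero_apply]]
    exact (ttSub (G := G)).zero_mem
  obtain ⟨η₂, hη₂0, hη₂c, h₂⟩ : ∃ η₂, η₂ ≠ 0 ∧ η₂ ⬝ᵥ c = 0 ∧ TT G (E η₂ c) := by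
    by_cases hm : c ∈ F ∙ c₁
    · obtain ⟨a, rfl⟩ := Submodule.mem_span_singleton.1 hm
      exact ⟨η₁, hη₁, by rw [dotProduct_smul, hη₁c₁, smul_zero], (hscal η₁ c₁ a h₁).2⟩
    · have hm' : c₁ ∉ F ∙ (c - c₁) := fun h => hm (by
        obtain ⟨a, ha⟩ := Submodule.mem_span_singleton.1 h
        have ha0 : a ≠ 0 := fun e => hc₁ (by rw [← ha, e, zero_smul])
        refine Submodule.mem_span_singleton.2 ⟨a⁻¹ + 1, ?_⟩
        rw [add_smul, one_smul]
        nth_rw 1 [← ha]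
        rw [smul_smul, inv_mul_cancel₀ ha0, one_smul, sub_add_cancel])
      obtain ⟨η', hη'v, hη'c⟩ := exists_dot_pair hm'
      rw [dotProduct_comm] at hη'v hη'c
      have h := hconj η₁ c₁ η' (c - c₁) h₁ hη'v
      rw [hη'c, one_smul, add_sub_cancel] at h
      refine ⟨_, fun e => ?_, ?_, h⟩
      · have hz := congrArg (fun z => z ⬝ᵥ c₁) e
        simp only [sub_dotProduct, smul_dotProduct, hη₁c₁, hη'c, zero_dotProduct, smul_eq_mul, mul_one,
          zero_sub, neg_eq_zero] at hz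
        rw [hz, zero_smul, sub_zero] at e
        exact hη₁ e
      · have e3 : η' ⬝ᵥ c = 1 := by
          have : η' ⬝ᵥ (c - c₁) = 0 := hη'v
          rw [dotProduct_sub, hη'c, sub_eq_zero] at this
          exact this
        rw [sub_dotProduct, smul_dotProduct, e3, dotProduct_sub, hη₁c₁, sub_zero, smul_eq_mul, mul_one,
          sub_self]
  by_cases hm : η ∈ F ∙ η₂
  · obtain ⟨a, rfl⟩ := Submodule.mem_span_singleton.1 hm
    exact (hscal η₂ c a h₂).1
  · have hm' : η₂ ∉ F ∙ (η - η₂) := fun h => hm (by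
      obtain ⟨a, ha⟩ := Submodule.mem_span_singleton.1 h
      have ha0 : a ≠ 0 := fun e => hη₂0 (by rw [← ha, e, zero_smul])
      refine Submodule.mem_span_singleton.2 ⟨a⁻¹ + 1, ?_⟩
      rw [add_smul, one_smul]
      nth_rw 1 [← ha]
      rw [smul_smul, inv_mul_cancel₀ ha0, one_smul, sub_add_cancel])
    obtain ⟨v, hv1, hv2⟩ := exists_dot_pair hm'
    have h := hconj η₂ c (η - η₂) (-v) h₂ (by rw [dotProduct_neg, hv1, neg_zero])
    rw [dotProduct_neg, hv2, sub_dotProduct η η₂ c, hηc, hη₂c, sub_zero, zero_smul, add_zero, neg_smul,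
      one_smul, sub_neg_eq_add, add_sub_cancel] at h
    exact h

end

end CfsgLib.MaxSub.TensorLin
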