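/-
A member that is not of pure type yields a non-scalar endomorphism, hence all transvections.
-/
import Cfsg.Agent.Lib.MaxSub.TensorLin.Root

set_option autoImplicit false
set_option maxHeartbeats 400000
set_option linter.unusedSectionVars false

namespace CfsgLib.MaxSub.TensorLin

open Matrix Module

variable {F : Type*} [Field F] {ι κ : Type*} [Fintype ι] [Fintype κ] [DecidableEq ι] [DecidableEq κ]
  {G : Subgroup (Matrix ι κ F ≃ₗ[F] Matrix ι κ F)}

local notation "MV" => Matrix ι κ F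

/-- A member that is not pure with deficient rows. -/
def Good (G : Subgroup (Matrix ι κ F ≃ₗ[F] Matrix ι κ F)) : Prop :=
  ∃ M, Mem G M ∧ NP M ∧ ∃ μ : κ → F, μ ≠ 0 ∧ ∀ X ∈ M, X *ᵥ μ = 0

/-- A pair of members meeting in dimension at least `j`. -/
def Pair (G : Subgroup (Matrix ι κ F ≃ₗ[F] Matrix ι κ F)) (w : κ → F) (j : ℕ) : Prop :=
  ∃ M, Mem G M ∧ M ≠ Col w ∧ j ≤ finrank F (M ⊓ Col w : Submodule F (Matrix ι κ F))

section

variable (O : TE G)
include O

/-- Two different members with a common subspace. -/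
theorem pair_of {M N V : Submodule F MV} (hM : Mem G M) (hN : Mem G N) (hne : M ≠ N) (hVM : V ≤ M)
    (hVN : V ≤ N) {j : ℕ} (hj : j ≤ finrank F V) {w : κ → F} (hw : w ≠ 0) : Pair G w j := by
  obtain ⟨g, -, hgM, hgN⟩ := pairs O hM hN hw
  refine ⟨_, hgM, fun e => hne (Submodule.map_injective_of_injective g.injective (e.trans hgN.symm)), ?_⟩
  rw [← hgN, ← LinearEquiv.finrank_map_eq g V] at *
  exact hj.trans (Submodule.finrank_mono (le_inf (Submodule.map_mono hVM) (Submodule.map_mono hVN)))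

/-- If all right elements of one functional stabilise a member then it kills the member. -/
theorem stuck {M : Submodule F MV} (hM : Mem G M) {μ : κ → F}
    (h : ∀ v : κ → F, v ⬝ᵥ μ = 0 → ∀ X ∈ M, X + vecMulVec (X *ᵥ μ) v ∈ M) : ∀ X ∈ M, X *ᵥ μ = 0 := by
  intro X hX
  by_contra hc
  let φ : (κ → F) →ₗ[F] MV :=
    { toFun := fun v => vecMulVec (X *ᵥ μ) v
      map_add' := fun a b => vecMulVec_add (X *ᵥ μ) a b
      map_smul' := fun t a => by ext i j; simp [vecMulVec_apply, mul_left_comm] }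
  have hφ : Function.Injective φ := fun a b e => by
    have e1 : φ (a - b) = 0 := by rw [map_sub, e, sub_self]
    exact sub_eq_zero.1 ((vmv_eq_zero.1 e1).resolve_left hc)
  let K : Submodule F (κ → F) := LinearMap.ker (dotProductEquiv F κ μ)
  have hK : ∀ v, v ∈ K ↔ v ⬝ᵥ μ = 0 := fun v => by
    rw [LinearMap.mem_ker, dotProductEquiv_apply_apply, dotProduct_comm]
  have h1 : finrank F K + 1 ≥ Fintype.card κ := by
    have := LinearMap.finrank_range_add_finrank_ker (dotProductEquiv F κ μ)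
    rw [Module.finrank_fintype_fun_eq_card] at this
    have := Submodule.finrank_le (LinearMap.range (dotProductEquiv F κ μ))
    rw [Module.finrank_self] at this
    show finrank F (LinearMap.ker (dotProductEquiv F κ μ)) + 1 ≥ _
    omega
  have hle : K.map φ < M := by
    refine lt_of_le_of_ne ?_ fun e => ?_
    · rintro _ ⟨v, hv, rfl⟩
      simpa [φ] using M.sub_mem (h v ((hK v).1 hv) X hX) hX
    · obtain ⟨v, hv, hvX⟩ := e.ge hX
      refine hc ?_
      rw [← hvX]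
      show vecMulVec (X *ᵥ μ) v *ᵥ μ = 0
      rw [vm, (hK v).1 hv, zero_smul]
  have h2 := Submodule.finrank_lt_finrank_of_lt hle
  rw [← (Submodule.equivMapOfInjective φ hφ K).finrank_eq, mem_finrank hM] at h2
  have := O.lt
  omega

/-- A right element moving a member, or deficient rows. -/
theorem stuck' {M : Submodule F MV} (hM : Mem G M) (μ : κ → F) :
    (∀ X ∈ M, X *ᵥ μ = 0) ∨ ∃ g ∈ G, M.map g.toLinearMap ≠ M ∧ ∀ X : MV, X *ᵥ μ = 0 → g X = X := by
  by_cases h : ∀ v : κ → F, v ⬝ᵥ μ = 0 → ∀ X ∈ M, X + vecMulVec (X *ᵥ μ) v ∈ M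
  · exact Or.inl (stuck O hM h)
  · push Not at h
    obtain ⟨v, hv, X, hX, hXv⟩ := h
    obtain ⟨g, hg, hgX⟩ := O.tvR μ v hv
    refine Or.inr ⟨g, hg, fun e => hXv ?_, fun Y hY => by rw [hgX, hY, zero_vecMulVec, add_zero]⟩
    rw [← hgX X]
    exact e ▸ Submodule.mem_map_of_mem hX

/-- Meeting. -/
theorem meet {M : Submodule F MV} (hM : Mem G M) (hnp : NP M) {w : κ → F} (hw : w ≠ 0) :
    Good G ∨ Pair G w 1 := by
  obtain ⟨z, hz, hz0⟩ := (Submodule.ne_bot_iff _).1 (show M ≠ ⊥ from fun e => by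
    have := mem_finrank hM
    rw [e, finrank_bot] at this
    have := O.two
    omega)
  obtain ⟨μ, hμ0, hμ⟩ := exists_perp (F := F) O.lt (fun i => z ((Fintype.equivFin ι).symm i))
  have hzμ : z *ᵥ μ = 0 := funext fun i => by
    have := hμ (Fintype.equivFin ι i)
    rwa [Equiv.symm_apply_apply, dotProduct_comm] at this
  rcases stuck' O hM μ with h | ⟨g, hg, hne, hfix⟩
  · exact Or.inl ⟨M, hM, hnp, μ, hμ0, h⟩
  · refine Or.inr (pair_of O (mem_map hM hg) hM hne (V := F ∙ z) ?_ ?_ ?_ hw)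
    · rw [Submodule.span_singleton_le_iff_mem]
      exact ⟨z, hz, hfix z hzμ⟩
    · rwa [Submodule.span_singleton_le_iff_mem]
    · rw [finrank_span_singleton hz0]

/-- An injective restriction is onto. -/
theorem iso {w : κ → F} (hw : w ≠ 0) {z : MV} (H : ∀ μ, w ⬝ᵥ μ = 0 → z *ᵥ μ = 0 → μ = 0) :
    Fintype.card κ = Fintype.card ι + 1 ∧ ∀ c : ι → F, ∃ μ, w ⬝ᵥ μ = 0 ∧ z *ᵥ μ = c := by
  let K : Submodule F (κ → F) := LinearMap.ker (dotProductEquiv F κ w)
  have hK : ∀ v, v ∈ K ↔ w ⬝ᵥ v = 0 := fun v => by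
    rw [LinearMap.mem_ker, dotProductEquiv_apply_apply]
  let φ : K →ₗ[F] (ι → F) := (Matrix.mulVecLin z).comp K.subtype
  have hφ : Function.Injective φ := (injective_iff_map_eq_zero φ).2 fun a ha =>
    Subtype.ext (H a ((hK _).1 a.2) ha)
  have h1 : finrank F K + 1 = Fintype.card κ := by
    have := LinearMap.finrank_range_add_finrank_ker (dotProductEquiv F κ w)
    rw [Module.finrank_fintype_fun_eq_card,
      LinearMap.range_eq_top.2 (LinearMap.surjective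
        (fun e => hw ((dotProductEquiv F κ).map_eq_zero_iff.1 e))), finrank_top, Module.finrank_self] at this
    change 1 + finrank F K = _ at this
    omega
  have h2 := LinearMap.finrank_le_finrank_of_injective hφ
  rw [Module.finrank_fintype_fun_eq_card] at h2
  have := O.lt
  refine ⟨by omega, fun c => ?_⟩
  obtain ⟨μ, hμ⟩ := (LinearMap.injective_iff_surjective_of_finrank_eq_finrank
    (by rw [Module.finrank_fintype_fun_eq_card]; omega)).1 hφ c
  exact ⟨μ, (hK _).1 μ.2, hμ⟩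

/-- Raising the dimension of the intersection. -/
theorem climb {w : κ → F} (hw : w ≠ 0) {M : Submodule F MV} (hM : Mem G M) (hne : M ≠ Col w)
    (h1 : 1 ≤ finrank F (M ⊓ Col w : Submodule F MV))
    (h2 : finrank F (M ⊓ Col w : Submodule F MV) + 2 ≤ Fintype.card ι) :
    Good G ∨ Pair G w (finrank F (M ⊓ Col w : Submodule F MV) + 1) := by
  set U := M ⊓ Col w with hU
  have hnp : NP M := np_of_meet hw hM hne fun e => by rw [show U = ⊥ from e, finrank_bot] at h1; omega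
  have hUμ : ∀ μ, w ⬝ᵥ μ = 0 → ∀ X ∈ U, X *ᵥ μ = 0 := fun μ hμ X hX => by
    obtain ⟨c, rfl⟩ := mem_col.1 hX.2
    rw [vm, hμ, zero_smul]
  have grow : ∀ z ∈ M, z ∉ U → ∀ g ∈ G, M.map g.toLinearMap ≠ M → (∀ X ∈ U, g X = X) → g z = z →
      Pair G w (finrank F U + 1) := fun z hz hzU g hg hne' hfix hfz => by
    refine pair_of O (mem_map hM hg) hM hne' (V := U ⊔ F ∙ z) ?_ ?_ ?_ hw
    · refine sup_le (fun X hX => ⟨X, hX.1, hfix X hX⟩) ?_
      rw [Submodule.span_singleton_le_iff_mem]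
      exact ⟨z, hz, hfz⟩
    · exact sup_le inf_le_left (by rwa [Submodule.span_singleton_le_iff_mem])
    · exact Submodule.finrank_lt_finrank_of_lt (lt_of_le_of_ne le_sup_left fun e =>
        hzU (e ▸ Submodule.mem_sup_right (Submodule.mem_span_singleton_self z)))
  by_contra hcon
  push Not at hcon
  obtain ⟨hgood, hpair⟩ := hcon
  have H : ∀ z ∈ M, z ∉ U → ∀ μ, w ⬝ᵥ μ = 0 → z *ᵥ μ = 0 → μ = 0 := fun z hz hzU μ h1' h2' => by
    by_contra hμ0
    rcases stuck' O hM μ with h | ⟨g, hg, hne', hfix⟩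
    · exact hgood ⟨M, hM, hnp, μ, hμ0, h⟩
    · exact hpair (grow z hz hzU g hg hne' (fun X hX => hfix X (hUμ μ h1' X hX)) (hfix z h2'))
  obtain ⟨z, hz, hzU⟩ : ∃ z ∈ M, z ∉ U := SetLike.not_le_iff_exists.1 fun hle => by
    have := Submodule.finrank_mono hle
    rw [mem_finrank hM] at this
    omega
  obtain ⟨hb, hsurj⟩ := iso O hw (H z hz hzU)
  -- a functional killing the first factors of the intersection
  obtain ⟨d₀, hd₀⟩ : ∃ d, d ∉ U.comap (colMap w) := by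
    by_contra hc
    push Not at hc
    have hle : Col w ≤ U := fun X hX => by
      obtain ⟨c, rfl⟩ := mem_col.1 hX
      exact hc c
    have := Submodule.finrank_mono hle
    rw [finrank_col hw] at this
    omega
  obtain ⟨η, hη, hηd⟩ := exists_dot hd₀
  obtain ⟨c, hc0, hc⟩ := exists_perp (F := F) (n := ι) (m := 1) (by omega) ![η]
  have hηc : η ⬝ᵥ c = 0 := (dotProduct_comm η c).trans (hc 0)
  rw [dotProduct_comm] at hηd
  obtain ⟨μ, hμw, hμz⟩ := hsurj c
  obtain ⟨ν₀, hν₀w, hν₀z⟩ := hsurj d₀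
  have hμ0 : μ ≠ 0 := fun e => hc0 (by rw [← hμz, e, mulVec_zero])
  set v : κ → F := -(η ᵥ* z) with hv
  have hvν : ∀ ν, v ⬝ᵥ ν = -(η ⬝ᵥ (z *ᵥ ν)) := fun ν => by rw [hv, neg_dotProduct, dotProduct_mulVec]
  obtain ⟨r, hr, hrX⟩ := O.tvR μ v (by rw [hvν, hμz, hηc, neg_zero])
  obtain ⟨l, hl, hlX⟩ := O.tvL η c hηc
  have hg : ∀ X, (l * r) X = X + vecMulVec (X *ᵥ μ) v
      + vecMulVec c (η ᵥ* X + (η ⬝ᵥ (X *ᵥ μ)) • v) := fun X => by
    show l (r X) = _
    rw [hlX, hrX, vecMul_add, vecMul_vecMulVec]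
  have hfix : ∀ X ∈ U, (l * r) X = X := fun X hX => by
    obtain ⟨d, rfl⟩ := mem_col.1 hX.2
    have e : η ⬝ᵥ d = 0 := (dotProduct_comm η d).trans (hη d hX)
    rw [hg, vm, hμw, zero_smul, zero_vecMulVec, dotProduct_zero, zero_smul, add_zero, add_zero,
      vecMul_vecMulVec, e, zero_smul, vmv_zero, add_zero]
  have hfz : (l * r) z = z := by
    rw [hg, hμz, hηc, zero_smul, add_zero, hv, vecMulVec_neg, neg_add_cancel_right]
  have hstab : M.map (l * r).toLinearMap = M := by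
    by_contra e
    exact hpair (grow z hz hzU _ (mul_mem hl hr) e hfix hfz)
  have key : ∀ y ∈ M, y ∈ U ⊔ F ∙ z := by
    intro y hy
    set y' := vecMulVec (y *ᵥ μ) v + vecMulVec c (η ᵥ* y + (η ⬝ᵥ (y *ᵥ μ)) • v) with hy'
    have hy'M : y' ∈ M := by
      have : (l * r) y ∈ M := hstab ▸ Submodule.mem_map_of_mem hy
      have := M.sub_mem this hy
      rwa [hg, add_assoc, add_sub_cancel_left] at this
    have hy'ν : ∀ ν, y' *ᵥ ν = (v ⬝ᵥ ν) • (y *ᵥ μ)
        + ((η ⬝ᵥ (y *ᵥ ν)) + (η ⬝ᵥ (y *ᵥ μ)) * (v ⬝ᵥ ν)) • c := fun ν => by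
      rw [hy', add_mulVec, vm, vm, add_dotProduct, smul_dotProduct, ← dotProduct_mulVec, smul_eq_mul]
    have hy'U : y' ∈ U := by
      by_contra hn
      obtain ⟨ν, hν0, hν⟩ := exists_perp (F := F) (n := κ) (m := 3) (by omega) ![w, v, η ᵥ* y]
      refine hν0 (H y' hy'M hn ν ((dotProduct_comm _ _).trans (hν 0)) ?_)
      have e1 : v ⬝ᵥ ν = 0 := (dotProduct_comm _ _).trans (hν 1)
      have e2 : η ⬝ᵥ (y *ᵥ ν) = 0 := by
        rw [dotProduct_mulVec]
        exact (dotProduct_comm _ _).trans (hν 2)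
      rw [hy'ν, e1, e2, mul_zero, add_zero, zero_smul, zero_smul, add_zero]
    have heq : ∀ ν, w ⬝ᵥ ν = 0 → (v ⬝ᵥ ν) • (y *ᵥ μ)
        + ((η ⬝ᵥ (y *ᵥ ν)) + (η ⬝ᵥ (y *ᵥ μ)) * (v ⬝ᵥ ν)) • c = 0 := fun ν hν =>
      (hy'ν ν).symm.trans (hUμ ν hν y' hy'U)
    have e0 : η ⬝ᵥ (y *ᵥ μ) = 0 := by
      have := heq μ hμw
      rw [hvν, hμz, hηc, neg_zero, zero_smul, zero_add, mul_zero, add_zero, smul_eq_zero] at this
      exact this.resolve_right hc0
    have e1 : y *ᵥ μ = (η ⬝ᵥ (y *ᵥ ν₀)) • c := by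
      have := heq ν₀ hν₀w
      rw [hvν, hν₀z, hηd, e0, zero_mul, add_zero, neg_smul, one_smul] at this
      exact neg_add_eq_zero.1 this
    have hU' : y - (η ⬝ᵥ (y *ᵥ ν₀)) • z ∈ U := by
      by_contra hn
      exact hμ0 (H _ (M.sub_mem hy (M.smul_mem _ hz)) hn μ hμw (by
        rw [sub_mulVec, smul_mulVec, hμz, e1, sub_self]))
    rw [← sub_add_cancel y ((η ⬝ᵥ (y *ᵥ ν₀)) • z)]
    exact Submodule.add_mem_sup hU' (Submodule.smul_mem _ _ (Submodule.mem_span_singleton_self z))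
  have h3 := Submodule.finrank_mono (show M ≤ U ⊔ F ∙ z from key)
  have h4 := Submodule.finrank_add_le_finrank_add_finrank U (F ∙ z)
  rw [finrank_span_singleton (fun e : z = 0 => hzU (e ▸ U.zero_mem))] at h4
  rw [mem_finrank hM] at h3
  omega

/-- Two members meeting in a hyperplane: deficient rows or an injective restriction. -/
theorem hyper {w : κ → F} (hw : w ≠ 0) {M : Submodule F MV} (hM : Mem G M) (hne : M ≠ Col w)
    (h : finrank F (M ⊓ Col w : Submodule F MV) + 1 = Fintype.card ι) {z : MV} (hz : z ∈ M)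
    (hzc : z ∉ Col w) :
    M = (M ⊓ Col w) ⊔ F ∙ z ∧ (Good G ∨ ∀ μ, w ⬝ᵥ μ = 0 → z *ᵥ μ = 0 → μ = 0) := by
  have hsup : M = (M ⊓ Col w) ⊔ F ∙ z := by
    refine (Submodule.eq_of_le_of_finrank_le (sup_le inf_le_left
      (by rwa [Submodule.span_singleton_le_iff_mem])) ?_).symm
    rw [mem_finrank hM, ← h]
    exact Submodule.finrank_lt_finrank_of_lt (lt_of_le_of_ne le_sup_left fun e =>
      hzc (e ▸ Submodule.mem_sup_right (Submodule.mem_span_singleton_self z) :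
        z ∈ M ⊓ Col w).2)
  refine ⟨hsup, ?_⟩
  by_cases hex : ∀ μ, w ⬝ᵥ μ = 0 → z *ᵥ μ = 0 → μ = 0
  · exact Or.inr hex
  push Not at hex
  obtain ⟨μ, h1, h2, h3⟩ := hex
  refine Or.inl ⟨M, hM, np_of_meet hw hM hne fun e => ?_, μ, h3, fun X hX => ?_⟩
  · rw [e, finrank_bot] at h
    have := O.two
    omega
  rw [hsup] at hX
  obtain ⟨X₁, hX₁, X₂, hX₂, rfl⟩ := Submodule.mem_sup.1 hX
  obtain ⟨a, rfl⟩ := Submodule.mem_span_singleton.1 hX₂
  obtain ⟨c, rfl⟩ := mem_col.1 hX₁.2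
  rw [add_mulVec, vm, h1, zero_smul, smul_mulVec, h2, smul_zero, add_zero]

/-- A non-scalar endomorphism from a hyperplane pair. -/
theorem residual {w : κ → F} (hw : w ≠ 0) {M : Submodule F MV} (hM : Mem G M) (hne : M ≠ Col w)
    (h : finrank F (M ⊓ Col w : Submodule F MV) + 1 = Fintype.card ι) :
    Good G ∨ ∃ (T : (ι → F) →ₗ[F] (ι → F)) (μ v : κ → F), μ ≠ 0 ∧ v ≠ 0 ∧ v ⬝ᵥ μ = 0 ∧
      (∀ s : F, ∃ c, T c ≠ s • c) ∧ TIn G T μ v := by
  obtain ⟨z, hz, hzc⟩ := SetLike.not_le_iff_exists.1 fun hle : M ≤ Col w =>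
    hne (eq_of_le hM (mem_col_self hw) hle)
  obtain ⟨hsup, hG | H⟩ := hyper O hw hM hne h hz hzc
  · exact Or.inl hG
  obtain ⟨g, hg, hgM⟩ := mem_std O hM hw
  -- the reversed pair
  set M' := (Col w).map (g⁻¹ : MV ≃ₗ[F] MV).toLinearMap with hM'
  have hm' : ∀ X, X ∈ M' ↔ g X ∈ Col w := fun X => by
    constructor
    · rintro ⟨Y, hY, rfl⟩
      show g (g.symm Y) ∈ Col w
      rwa [g.apply_symm_apply]
    · exact fun hX => ⟨g X, hX, g.symm_apply_apply X⟩
  have hne' : M' ≠ Col w := fun e => by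
    refine hne (hgM.trans ?_)
    conv_lhs => rw [← e, hM', ← Submodule.map_comp]
    exact (congrArg (Submodule.map · (Col w)) (LinearMap.ext fun x => g.apply_symm_apply x)).trans
      (Submodule.map_id _)
  have hinf : (M' ⊓ Col w).map g.toLinearMap = M ⊓ Col w := by
    rw [Submodule.map_inf _ g.injective, ← hgM, hM', ← Submodule.map_comp, inf_comm]
    congr 1
    exact (congrArg (Submodule.map · (Col w)) (LinearMap.ext fun x => g.apply_symm_apply x)).trans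
      (Submodule.map_id _)
  have h' : finrank F (M' ⊓ Col w : Submodule F MV) + 1 = Fintype.card ι := by
    rwa [← LinearEquiv.finrank_map_eq g, hinf]
  obtain ⟨y, hy, hyc⟩ := SetLike.not_le_iff_exists.1 fun hle : M' ≤ Col w =>
    hne' (eq_of_le (mem_map (mem_col_self hw) (inv_mem hg)) (mem_col_self hw) hle)
  obtain ⟨-, hG | H'⟩ := hyper O hw (mem_map (mem_col_self hw) (inv_mem hg)) hne' h' hy hyc
  · exact Or.inl hG
  refine Or.inr ?_
  -- a shift
  have := O.two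
  obtain ⟨u, ⟨hu1, hu2⟩, hu0⟩ := (Submodule.ne_bot_iff _).1 (show M' ⊓ Col w ≠ ⊥ from fun e => by
    rw [e, finrank_bot] at h'; omega)
  obtain ⟨c₀, rfl⟩ := mem_col.1 hu2
  obtain ⟨ν, hνw, hνy⟩ := (iso O hw H').2 c₀
  let D : MV →ₗ[F] MV := g.toLinearMap ∘ₗ rMap ν w ∘ₗ g.symm.toLinearMap
  have hD : ∀ X, D X = g (vecMulVec (g.symm X *ᵥ ν) w) := fun X => rfl
  have hDmem : ∀ X, D X ∈ M := fun X => hgM ▸ ⟨_, mem_col.2 ⟨_, rfl⟩, rfl⟩
  have hDM : ∀ X ∈ M, D X = 0 := fun X hX => by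
    rw [hgM] at hX
    obtain ⟨Y, hY, rfl⟩ := hX
    obtain ⟨d, rfl⟩ := mem_col.1 hY
    rw [hD]
    show g (vecMulVec (g.symm (g (vecMulVec d w)) *ᵥ ν) w) = 0
    rw [g.symm_apply_apply, vm, hνw, zero_smul, zero_vecMulVec, map_zero]
  have hDD : ∀ X, D (D X) = 0 := fun X => hDM _ (hDmem X)
  obtain ⟨d, hd, hdX⟩ : ∃ d ∈ G, ∀ X, d X = X + D X := by
    obtain ⟨t, ht, htX⟩ := O.tvR ν w hνw
    refine ⟨g * t * g⁻¹, mul_mem (mul_mem hg ht) (inv_mem hg), fun X => ?_⟩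
    show g (t (g.symm X)) = _
    rw [htX, map_add, g.apply_symm_apply]
    rfl
  have hd' : ∀ X, d.symm X = X - D X := fun X => d.injective (by
    rw [d.apply_symm_apply, hdX, map_sub, hDD, sub_zero, sub_add_cancel])
  obtain ⟨e, he⟩ := mem_col.1 ((hm' y).1 hy)
  obtain ⟨s, hs⟩ := mem_col.1 ((hm' _).1 hu1)
  have hsM : vecMulVec s w ∈ M := hs ▸ hgM ▸ Submodule.mem_map_of_mem hu2
  have hs0 : s ≠ 0 := fun e' => hu0 (g.map_eq_zero_iff.1 (by rw [← hs, e', zero_vecMulVec]))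
  have heM : vecMulVec e w ∉ M := fun hm => hyc (by
    rw [he, hgM] at hm
    obtain ⟨Y, hY, hYe⟩ := hm
    exact g.injective hYe ▸ hY)
  have hDe : D (vecMulVec e w) = vecMulVec s w := by
    rw [hD, he, g.symm_apply_apply, hνy, ← hs]
  have hcolsup : Col w = (M ⊓ Col w) ⊔ F ∙ vecMulVec e w := by
    refine (Submodule.eq_of_le_of_finrank_le (sup_le inf_le_right
      (by rw [Submodule.span_singleton_le_iff_mem]; exact mem_col.2 ⟨e, rfl⟩)) ?_).symm
    rw [finrank_col hw, ← h]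
    exact Submodule.finrank_lt_finrank_of_lt (lt_of_le_of_ne le_sup_left fun e' =>
      heM (e' ▸ Submodule.mem_sup_right (Submodule.mem_span_singleton_self _) :
        vecMulVec e w ∈ M ⊓ Col w).1)
  have hDcol : ∀ X ∈ Col w, D X ∈ Col w := fun X hX => by
    rw [hcolsup] at hX
    obtain ⟨X₁, hX₁, X₂, hX₂, rfl⟩ := Submodule.mem_sup.1 hX
    obtain ⟨a, rfl⟩ := Submodule.mem_span_singleton.1 hX₂
    rw [map_add, hDM _ hX₁.1, map_smul, hDe, zero_add]
    exact (Col w).smul_mem _ (mem_col.2 ⟨s, rfl⟩)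
  obtain ⟨μ, hμw, hμz⟩ := (iso O hw H).2 e
  have he0 : e ≠ 0 := fun e' => heM (by rw [e', zero_vecMulVec]; exact M.zero_mem)
  have hμ0 : μ ≠ 0 := fun e' => he0 (by rw [← hμz, e', mulVec_zero])
  obtain ⟨v', hv'⟩ := exists_dot_one hμ0
  rw [dotProduct_comm] at hv'
  obtain ⟨l, hl0, hl⟩ := exists_perp (F := F) (n := κ) (m := 2) (by have := three O; omega) ![w, v']
  have hwl : w ⬝ᵥ l = 0 := (dotProduct_comm _ _).trans (hl 0)
  have hv'l : v' ⬝ᵥ l = 0 := (dotProduct_comm _ _).trans (hl 1)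
  -- the conjugate element
  let B : MV →ₗ[F] MV :=
    (LinearMap.id + D) ∘ₗ rMap μ w ∘ₗ (LinearMap.id - D)
  have hB : ∀ X, B X = vecMulVec ((X - D X) *ᵥ μ) w + D (vecMulVec ((X - D X) *ᵥ μ) w) := fun X => rfl
  have hBUI : UI G B := by
    obtain ⟨t, ht, htX⟩ := O.tvR μ w hμw
    refine ⟨d * t * d⁻¹, mul_mem (mul_mem hd ht) (inv_mem hd), fun X => ?_⟩
    show d (t (d.symm X)) = _
    rw [hd', htX, hdX, map_add, map_sub, hDD, hB]
    abel
  have hBcol : ∀ X, B X ∈ Col w := fun X => by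
    rw [hB]
    exact (Col w).add_mem (mem_col.2 ⟨_, rfl⟩) (hDcol _ (mem_col.2 ⟨_, rfl⟩))
  have hcolμ : ∀ X ∈ (Col w : Submodule F MV), ∀ ρ, w ⬝ᵥ ρ = 0 → X *ᵥ ρ = 0 := fun X hX ρ hρ => by
    obtain ⟨c, rfl⟩ := mem_col.1 hX
    rw [vm, hρ, zero_smul]
  have hBB : ∀ X, B (B X) = 0 := fun X => by
    rw [hB, hcolμ _ ((Col w).sub_mem (hBcol X) (hDcol _ (hBcol X))) μ hμw, zero_vecMulVec, map_zero,
      add_zero]
  have hUI := ui_comm hBUI (ui_rMap O hv'l) hBB
    (fun X => by rw [rMap_apply, rMap_apply, vm, hv'l, zero_smul, zero_vecMulVec])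
    (fun X => by rw [rMap_apply, hcolμ _ (hBcol X) l hwl, zero_vecMulVec])
  obtain ⟨μ₀, hμ₀⟩ := exists_dot_one hw
  let Ω : (ι → F) →ₗ[F] (ι → F) := mvMap μ₀ ∘ₗ B ∘ₗ colMap v'
  have hΩ : ∀ c, vecMulVec (Ω c) w = B (vecMulVec c v') := fun c => by
    obtain ⟨c', hc'⟩ := mem_col.1 (hBcol (vecMulVec c v'))
    show vecMulVec (B (vecMulVec c v') *ᵥ μ₀) w = _
    rw [← hc', vm, hμ₀, one_smul]
  refine ⟨Ω, l, w, hl0, hw, hwl, fun k => ?_, ?_⟩
  · by_contra hc
    push Not at hc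
    have hMμ : ∀ X ∈ M, ∃ t : F, X *ᵥ μ = t • e := fun X hX => by
      rw [hsup] at hX
      obtain ⟨X₁, hX₁, X₂, hX₂, rfl⟩ := Submodule.mem_sup.1 hX
      obtain ⟨t, rfl⟩ := Submodule.mem_span_singleton.1 hX₂
      exact ⟨t, by rw [add_mulVec, hcolμ _ hX₁.2 μ hμw, zero_add, smul_mulVec, hμz]⟩
    have hkey : ∀ c, ∃ t : F, vecMulVec (k • c) w
        = vecMulVec c w + D (vecMulVec c w) - t • (vecMulVec e w + vecMulVec s w) := fun c => by
      obtain ⟨t, ht⟩ := hMμ _ (hDmem (vecMulVec c v'))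
      refine ⟨t, ?_⟩
      rw [← hc c, hΩ, hB, sub_mulVec, vm, hv', one_smul, ht, sub_vecMulVec, smul_vecMulVec, map_sub,
        map_smul, hDe, smul_add]
      abel
    obtain ⟨X, hX, hX0⟩ := (Submodule.ne_bot_iff _).1 (show M ⊓ Col w ≠ ⊥ from fun e' => by
      rw [e', finrank_bot] at h; omega)
    obtain ⟨c, rfl⟩ := mem_col.1 hX.2
    obtain ⟨t, ht⟩ := hkey c
    rw [hDM _ hX.1, add_zero, smul_vecMulVec, smul_add] at ht
    have ht0 : t = 0 := by
      by_contra ht0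
      refine heM ?_
      have : vecMulVec e w = t⁻¹ • ((1 - k) • vecMulVec c w) - vecMulVec s w := by
        rw [show (1 - k) • vecMulVec c w = t • vecMulVec e w + t • vecMulVec s w by
          rw [sub_smul, one_smul, ht]; abel, smul_add, smul_smul, smul_smul, inv_mul_cancel₀ ht0,
          one_smul, one_smul, add_sub_cancel_right]
      rw [this]
      exact M.sub_mem (M.smul_mem _ (M.smul_mem _ hX.1)) hsM
    rw [ht0, zero_smul, zero_smul, add_zero, sub_zero] at ht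
    have hk : k = 1 := smul_left_injective F hX0 (show k • vecMulVec c w = (1 : F) • vecMulVec c w by
      rw [one_smul]; exact ht)
    obtain ⟨t', ht'⟩ := hkey e
    rw [hDe, hk, one_smul] at ht'
    have ht'' : t' • vecMulVec e w = (1 - t') • vecMulVec s w := by
      rw [sub_smul, one_smul]
      linear_combination (norm := module) ht'
    rcases eq_or_ne t' 0 with rfl | h0
    · rw [zero_smul, sub_zero, one_smul] at ht''
      exact (vmv_eq_zero.1 ht''.symm).elim hs0 hw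
    · refine heM ?_
      rw [← one_smul F (vecMulVec e w), ← inv_mul_cancel₀ h0, mul_smul, ht'']
      exact M.smul_mem _ (M.smul_mem _ hsM)
  · obtain ⟨g', hg', hg'X⟩ := hUI
    refine ⟨g', hg', fun X => ?_⟩
    rw [hg'X, LinearMap.comp_apply, rMap_apply, tMap_apply, hΩ]

/-- A non-scalar endomorphism. -/
theorem exists_tt {M : Submodule F MV} (hM : Mem G M) (hnp : NP M) :
    ∃ T : (ι → F) →ₗ[F] (ι → F), (∀ s : F, ∃ c, T c ≠ s • c) ∧ TT G T := by
  have fin : (∃ (T : (ι → F) →ₗ[F] (ι → F)) (μ v : κ → F), μ ≠ 0 ∧ v ≠ 0 ∧ v ⬝ᵥ μ = 0 ∧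
      (∀ s : F, ∃ c, T c ≠ s • c) ∧ TIn G T μ v) →
      ∃ T : (ι → F) →ₗ[F] (ι → F), (∀ s : F, ∃ c, T c ≠ s • c) ∧ TT G T := by
    rintro ⟨T, μ, v, hμ, hv, hvμ, hns, hT⟩
    exact ⟨T, hns, tt_of O hT hvμ hμ hv⟩
  by_cases hG : Good G
  · exact fin (exists_phi O hG)
  obtain ⟨w, hw⟩ : ∃ w : κ → F, w ≠ 0 := by
    obtain ⟨v, hv, -⟩ := exists_perp (F := F) (n := κ) (m := 1) (by have := three O; omega) ![0]
    exact ⟨v, hv⟩
  have hstep : ∀ j, j + 1 ≤ Fintype.card ι → 1 ≤ j → Pair G w j := by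
    intro j hj hj1
    induction j, hj1 using Nat.le_induction with
    | base => exact (meet O hM hnp hw).resolve_left hG
    | succ j hj1 ih =>
      obtain ⟨N, hN, hNne, hNj⟩ := ih (by omega)
      by_cases hlt : j + 1 ≤ finrank F (N ⊓ Col w : Submodule F MV)
      · exact ⟨N, hN, hNne, hlt⟩
      · have e : finrank F (N ⊓ Col w : Submodule F MV) = j := by omega
        have := (climb O hw hN hNne (by omega) (by omega)).resolve_left hG
        rwa [e] at this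
  have := O.two
  obtain ⟨N, hN, hNne, hNj⟩ := hstep (Fintype.card ι - 1) (by omega) (by omega)
  have hlt : finrank F (N ⊓ Col w : Submodule F MV) < Fintype.card ι := by
    rw [← mem_finrank hN]
    exact Submodule.finrank_lt_finrank_of_lt (lt_of_le_of_ne inf_le_left fun e =>
      hNne (eq_of_le hN (mem_col_self hw) (inf_eq_left.1 e)))
  exact fin ((residual O hw hN hNne (by omega)).resolve_left hG)

/-- Commutator of two transvections. -/
theorem tr_comm {η η' c c' : ι → F} {μ μ' v v' : κ → F} (h : TrIn G η c μ v) (h' : TrIn G η' c' μ' v')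
    (h0 : (η ⬝ᵥ c) * (v ⬝ᵥ μ) = 0) (h0' : (η' ⬝ᵥ c') * (v' ⬝ᵥ μ') = 0)
    (hz : (η' ⬝ᵥ c) * (v ⬝ᵥ μ') = 0) (h1 : η ⬝ᵥ c' = 1) (h2 : v' ⬝ᵥ μ = 1) : TrIn G η' c μ' v := by
  let R : (ι → F) → (ι → F) → (κ → F) → (κ → F) → MV →ₗ[F] MV := fun η c μ v =>
    ((dotProductEquiv F ι η).comp (mvMap μ)).smulRight (vecMulVec c v)
  have hR : ∀ η c μ v X, R η c μ v X = (η ⬝ᵥ (X *ᵥ μ)) • vecMulVec c v := fun η c μ v X => rfl
  have hev : ∀ η c μ v η' c' μ' v', ∀ X, R η c μ v (R η' c' μ' v' X)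
      = ((η' ⬝ᵥ (X *ᵥ μ')) * ((η ⬝ᵥ c') * (v' ⬝ᵥ μ))) • vecMulVec c v := fun η c μ v η' c' μ' v' X => by
    rw [hR, hR, smul_mulVec, vm, dotProduct_smul, dotProduct_smul, smul_eq_mul, smul_eq_mul]
    congr 1
    ring
  obtain ⟨g, hg, hgX⟩ := ui_comm (G := G) (A := R η c μ v) (B := R η' c' μ' v') h h'
    (fun X => by rw [hev, h0, mul_zero, zero_smul]) (fun X => by rw [hev, h0', mul_zero, zero_smul])
    (fun X => by rw [hev, hz, mul_zero, zero_smul])
  refine ⟨g, hg, fun X => ?_⟩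
  rw [hgX, LinearMap.comp_apply, hev, h1, h2, mul_one, mul_one]

/-- All transvections along pure tensors. -/
theorem tr_all {M : Submodule F MV} (hM : Mem G M) (hnp : NP M) (η c : ι → F) (μ v : κ → F)
    (h : (η ⬝ᵥ c) * (v ⬝ᵥ μ) = 0) : TrIn G η c μ v := by
  obtain ⟨T, hns, hT⟩ := exists_tt O hM hnp
  have both : ∀ η c : ι → F, ∀ μ v : κ → F, η ⬝ᵥ c = 0 → v ⬝ᵥ μ = 0 → TrIn G η c μ v := by
    intro η c μ v h1 h2
    obtain ⟨g, hg, hgX⟩ := e_all O hT hns η c h1 μ v h2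
    refine ⟨g, hg, fun X => ?_⟩
    rw [hgX, tMap_apply, rk_apply, smul_vecMulVec]
  have caseA : ∀ η' c : ι → F, ∀ μ' v : κ → F, v ⬝ᵥ μ' = 0 → TrIn G η' c μ' v := by
    intro η' c μ' v h2
    by_cases h1 : η' ⬝ᵥ c = 0
    · exact both η' c μ' v h1 h2
    obtain ⟨c', hc'0, hc'⟩ := exists_perp (F := F) (n := ι) (m := 1) (by have := O.two; omega) ![η']
    have e1 : η' ⬝ᵥ c' = 0 := (dotProduct_comm _ _).trans (hc' 0)
    obtain ⟨η, hη1, hη2⟩ := exists_dot_pair (x := c) (v := c') fun hm => by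
      obtain ⟨a, rfl⟩ := Submodule.mem_span_singleton.1 hm
      rw [dotProduct_smul, smul_eq_mul, mul_eq_zero] at e1
      rcases e1 with rfl | e1
      · exact hc'0 (zero_smul F c)
      · exact h1 e1
    obtain ⟨v', hv'1, hv'2⟩ := exists_perp_notMem (three O) μ' v
    obtain ⟨μ, hμ1, hμ2⟩ := exists_dot_pair hv'2
    rw [dotProduct_comm] at hη1 hη2
    exact tr_comm O (both η c μ v hη1 hμ1) (both η' c' μ' v' e1 hv'1) (by rw [hη1, zero_mul])
      (by rw [e1, zero_mul]) (by rw [h2, mul_zero]) hη2 hμ2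
  rcases mul_eq_zero.1 h with h1 | h2
  · by_cases h2 : v ⬝ᵥ μ = 0
    · exact caseA η c μ v h2
    rcases eq_or_ne c 0 with rfl | hc
    · exact ⟨1, one_mem G, fun X => by simp⟩
    obtain ⟨η', hη'⟩ := exists_dot_one hc
    rw [dotProduct_comm] at hη'
    obtain ⟨v', hv'0, hv'⟩ := exists_perp (F := F) (n := κ) (m := 1) (by have := three O; omega) ![μ]
    have e2 : v' ⬝ᵥ μ = 0 := hv' 0
    obtain ⟨μ', hμ'1, hμ'2⟩ := exists_dot_pair (x := v) (v := v') fun hm => by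
      obtain ⟨a, rfl⟩ := Submodule.mem_span_singleton.1 hm
      rw [smul_dotProduct, smul_eq_mul, mul_eq_zero] at e2
      rcases e2 with rfl | e2
      · exact hv'0 (zero_smul F v)
      · exact h2 e2
    exact tr_comm O (caseA η' c μ' v hμ'1) (caseA η c μ v' e2) (by rw [hμ'1, mul_zero])
      (by rw [e2, mul_zero]) (by rw [h1, zero_mul]) hη' hμ'2
  · exact caseA η c μ v h2

end

end CfsgLib.MaxSub.TensorLin
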