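/-
Stabilisers of tensor decompositions with two factors are maximal in the special linear group.
-/
import Cfsg.Agent.Lib.MaxSub.TensorLin.Climb
import Cfsg.Agent.Lib.Aschbacher.ProperGeneral
import Cfsg.Agent.Lib.StSL.Presentation

set_option autoImplicit false
set_option linter.unusedSectionVars false

namespace CfsgLib.MaxSub.TensorLin

open Matrix Module

open scoped Kronecker

variable {F : Type*} [Field F] {a b : ℕ}

/-- Matrices as vectors indexed by pairs. -/
def flat : Matrix (Fin a) (Fin b) F ≃ₗ[F] (Fin a × Fin b → F) where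
  toFun X p := X p.1 p.2
  invFun f := Matrix.of fun i j => f (i, j)
  map_add' _ _ := rfl
  map_smul' _ _ := rfl
  left_inv _ := rfl
  right_inv _ := rfl

/-- Invertible matrices on pairs as maps of matrices. -/
noncomputable def mmap : GL (Fin a × Fin b) F →* (Matrix (Fin a) (Fin b) F ≃ₗ[F] Matrix (Fin a) (Fin b) F) where
  toFun M := flat.trans ((((Matrix.GeneralLinearGroup.toLin).trans
    (LinearMap.GeneralLinearGroup.generalLinearEquiv F (Fin a × Fin b → F))) M).trans flat.symm)
  map_one' := by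
    refine LinearEquiv.ext fun X => ?_
    simp
  map_mul' M N := by
    refine LinearEquiv.ext fun X => ?_
    simp

theorem mmap_apply (M : GL (Fin a × Fin b) F) (X : Matrix (Fin a) (Fin b) F) :
    mmap M X = flat.symm ((M : Matrix (Fin a × Fin b) (Fin a × Fin b) F) *ᵥ flat X) := rfl

theorem mmap_kron {M : GL (Fin a × Fin b) F} {A : Matrix (Fin a) (Fin a) F}
    {B : Matrix (Fin b) (Fin b) F}
    (h : (M : Matrix (Fin a × Fin b) (Fin a × Fin b) F) = A ⊗ₖ B) (X : Matrix (Fin a) (Fin b) F) :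
    mmap M X = A * X * Bᵀ := by
  rw [mmap_apply, h]
  ext i j
  show ((A ⊗ₖ B) *ᵥ flat X) (i, j) = _
  simp only [Matrix.mulVec, dotProduct, Fintype.sum_prod_type, Matrix.mul_apply, Matrix.transpose_apply,
    Matrix.kroneckerMap_apply, Finset.sum_mul]
  rw [Finset.sum_comm]
  refine Finset.sum_congr rfl fun k _ => Finset.sum_congr rfl fun l _ => ?_
  show A i l * B j k * X l k = A i l * X l k * B j k
  ring

theorem mmap_injective : Function.Injective (mmap (F := F) (a := a) (b := b)) := fun M N h => by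
  refine Units.ext (Matrix.toLin'.injective (LinearMap.ext fun x => ?_))
  have := LinearEquiv.congr_fun h (flat.symm x)
  rw [mmap_apply, mmap_apply, LinearEquiv.apply_symm_apply] at this
  exact flat.symm.injective this

/-- A group containing the tensor product inside the special linear group and not inside the tensor
product contains the special linear group's transvections. -/
theorem over_kron (h2 : 2 ≤ a) (hab : a < b) (hsmall : a ≠ 2 ∨ ∃ t : F, t ≠ 0 ∧ t ≠ 1)
    {K : Subgroup (GL (Fin a × Fin b) F)}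
    (hK : ∀ (M : GL (Fin a × Fin b) F) (A : Matrix (Fin a) (Fin a) F) (B : Matrix (Fin b) (Fin b) F),
      A.det = 1 → B.det = 1 → (M : Matrix (Fin a × Fin b) (Fin a × Fin b) F) = A ⊗ₖ B → M ∈ K)
    (hnot : ¬ K ≤ Cfsg.Geo.kroneckerSubgroup a b F) {p q : Fin a × Fin b} (hpq : p ≠ q) (c : F) :
    ∃ M ∈ K, (M : Matrix (Fin a × Fin b) (Fin a × Fin b) F) = Matrix.transvection p q c := by
  have hex : ∀ (A : Matrix (Fin a) (Fin a) F) (B : Matrix (Fin b) (Fin b) F), A.det = 1 → B.det = 1 →
      ∃ g ∈ K.map mmap, ∀ X, g X = A * X * Bᵀ := fun A B hA hB => by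
    obtain ⟨M, hM⟩ : ∃ M : GL (Fin a × Fin b) F,
        (M : Matrix (Fin a × Fin b) (Fin a × Fin b) F) = A ⊗ₖ B :=
      ⟨((Matrix.isUnit_iff_isUnit_det (A ⊗ₖ B)).2
        (by rw [Matrix.det_kronecker, hA, hB]; simp)).unit, rfl⟩
    exact ⟨_, ⟨M, hK M A B hA hB hM, rfl⟩, mmap_kron hM⟩
  have O : TE (K.map mmap) :=
    { tvR := fun μ v h => by
        obtain ⟨g, hg, hgX⟩ := hex 1 (1 + vecMulVec v μ) det_one (by
          rw [vecMulVec_eq Unit, Matrix.det_one_add_replicateCol_mul_replicateRow, dotProduct_comm, h,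
            add_zero])
        refine ⟨g, hg, fun X => ?_⟩
        rw [hgX, Matrix.one_mul, transpose_add, transpose_one, transpose_vecMulVec, Matrix.mul_add,
          Matrix.mul_one, mul_vecMulVec]
      tvL := fun η c h => by
        obtain ⟨g, hg, hgX⟩ := hex (1 + vecMulVec c η) 1 (by
          rw [vecMulVec_eq Unit, Matrix.det_one_add_replicateCol_mul_replicateRow, h, add_zero]) det_one
        refine ⟨g, hg, fun X => ?_⟩
        rw [hgX, transpose_one, Matrix.mul_one, Matrix.add_mul, Matrix.one_mul, vecMulVec_mul]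
      two := by rwa [Fintype.card_fin]
      lt := by rwa [Fintype.card_fin, Fintype.card_fin]
      small := by rwa [Fintype.card_fin] }
  obtain ⟨M₀, hM₀, hnk⟩ := SetLike.not_le_iff_exists.1 hnot
  obtain ⟨W, hW, hnp⟩ : ∃ W, Mem (K.map mmap) W ∧ NP W := by
    by_contra hc
    simp only [NP, not_exists, not_and, not_forall, not_not] at hc
    have hpure : ∀ w : Fin b → F, w ≠ 0 →
        ∃ v, (Col w).map (mmap M₀).toLinearMap = Col (ι := Fin a) v := fun w hw =>
      hc _ ⟨_, ⟨M₀, hM₀, rfl⟩, w, hw, rfl⟩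
    set g := mmap M₀ with hg
    let e : Fin b → Fin b → F := fun j => Pi.single j 1
    have he0 : ∀ j, e j ≠ 0 := fun j => by simp [e]
    choose v hv using fun j => hpure (e j) (he0 j)
    have hmemv : ∀ j c, g (vecMulVec c (e j)) ∈ Col (ι := Fin a) (v j) := fun j c =>
      hv j ▸ ⟨_, mem_col.2 ⟨c, rfl⟩, rfl⟩
    have hv0 : ∀ j, v j ≠ 0 := fun j hj => by
      obtain ⟨c, hc⟩ := mem_col.1 (hmemv j (Pi.single ⟨0, by omega⟩ 1))
      rw [hj, vmv_zero] at hc
      rcases vmv_eq_zero.1 (g.map_eq_zero_iff.1 hc.symm) with h | h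
      · simp at h
      · exact he0 j h
    choose ρ hρ using fun j => exists_dot_one (hv0 j)
    let ψ : Fin b → (Fin a → F) →ₗ[F] (Fin a → F) := fun j =>
      mvMap (ρ j) ∘ₗ g.toLinearMap ∘ₗ colMap (e j)
    have hψ : ∀ j c, g (vecMulVec c (e j)) = vecMulVec (ψ j c) (v j) := fun j c => by
      obtain ⟨c', hc'⟩ := mem_col.1 (hmemv j c)
      show _ = vecMulVec (g (vecMulVec c (e j)) *ᵥ ρ j) (v j)
      rw [← hc', vm, hρ, one_smul]
    have hprop : ∀ j k, j ≠ k → ∃ t : F, ∀ c, ψ k c = t • ψ j c := fun j k hjk => by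
      have hnotk : v j ∉ F ∙ v k := fun hm => by
        obtain ⟨s, hs⟩ := Submodule.mem_span_singleton.1 hm
        have h0 : ∀ c, ∃ d, vecMulVec c (e j) = vecMulVec d (e k) := fun c => by
          have h1 : g (vecMulVec c (e j)) ∈ (Col (e k)).map g.toLinearMap := by
            rw [hv k]
            exact mem_col.2 ⟨s • ψ j c, by rw [hψ, ← hs, vecMulVec_smul, smul_vecMulVec]⟩
          obtain ⟨Y, hY, hYe⟩ := h1
          obtain ⟨d, rfl⟩ := mem_col.1 hY
          exact ⟨d, (g.injective hYe).symm⟩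
        obtain ⟨d, hd⟩ := h0 (Pi.single ⟨0, by omega⟩ 1)
        have := congrFun (congrFun hd ⟨0, by omega⟩) j
        simp [e, vecMulVec_apply, hjk] at this
      have hnotj : v k ∉ F ∙ v j := fun hm => hnotk (by
        obtain ⟨s, hs⟩ := Submodule.mem_span_singleton.1 hm
        have hs0 : s ≠ 0 := fun h => hv0 k (by rw [← hs, h, zero_smul])
        exact Submodule.mem_span_singleton.2 ⟨s⁻¹, by rw [← hs, smul_smul, inv_mul_cancel₀ hs0, one_smul]⟩)
      obtain ⟨μ, hμ1, hμ2⟩ := exists_dot_pair hnotk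
      obtain ⟨μ', hμ'1, hμ'2⟩ := exists_dot_pair hnotj
      obtain ⟨v'', hv''⟩ := hpure (e j + e k) fun h => by
        have := congrFun h j
        simp [e, hjk] at this
      have hsum : ∀ c, ∃ d, vecMulVec d v'' = vecMulVec (ψ j c) (v j) + vecMulVec (ψ k c) (v k) := fun c => by
        refine mem_col.1 ?_
        rw [← hv'', ← hψ, ← hψ, ← map_add, ← vecMulVec_add]
        exact ⟨_, mem_col.2 ⟨c, rfl⟩, rfl⟩
      choose d hd using hsum
      have e1 : ∀ c, ψ j c = (v'' ⬝ᵥ μ) • d c := fun c => by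
        have := congrArg (fun X : Matrix (Fin a) (Fin b) F => X *ᵥ μ) (hd c)
        simpa [add_mulVec, vm, hμ1, hμ2] using this.symm
      have e2 : ∀ c, ψ k c = (v'' ⬝ᵥ μ') • d c := fun c => by
        have := congrArg (fun X : Matrix (Fin a) (Fin b) F => X *ᵥ μ') (hd c)
        simpa [add_mulVec, vm, hμ'1, hμ'2] using this.symm
      have hne : v'' ⬝ᵥ μ ≠ 0 := fun h => by
        have := hψ j (Pi.single ⟨0, by omega⟩ 1)
        rw [e1, h, zero_smul, zero_vecMulVec, g.map_eq_zero_iff, vmv_eq_zero] at this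
        rcases this with h' | h'
        · simp at h'
        · exact he0 j h'
      exact ⟨(v'' ⬝ᵥ μ') * (v'' ⬝ᵥ μ)⁻¹, fun c => by
        rw [e1, e2, smul_smul, mul_assoc, inv_mul_cancel₀ hne, mul_one]⟩
    let j₀ : Fin b := ⟨0, by omega⟩
    have hprop' : ∀ k, ∃ t : F, ∀ c, ψ k c = t • ψ j₀ c := fun k => by
      by_cases h : j₀ = k
      · exact ⟨1, fun c => by rw [← h, one_smul]⟩
      · exact hprop j₀ k h
    choose t ht using hprop'
    let Ψ : Matrix (Fin a) (Fin a) F := LinearMap.toMatrix' (ψ j₀)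
    let Q : Matrix (Fin b) (Fin b) F := Matrix.of fun j => t j • v j
    have hdec : ∀ X : Matrix (Fin a) (Fin b) F, X = ∑ j, vecMulVec (X *ᵥ e j) (e j) := fun X => by
      ext i k
      simp [e, Matrix.sum_apply, vecMulVec_apply, Pi.single_apply, Finset.sum_ite_eq,
        Matrix.mulVec_single_one]
    have hform : ∀ X, g X = Ψ * X * Q := fun X => by
      conv_lhs => rw [hdec X]
      conv_rhs => rw [hdec X]
      rw [map_sum, Matrix.mul_sum, Matrix.sum_mul]
      refine Finset.sum_congr rfl fun j _ => ?_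
      rw [hψ, mul_vecMulVec, vecMulVec_mul, ht, smul_vecMulVec, ← vecMulVec_smul]
      congr 1
      · exact (LinearMap.toMatrix'_mulVec (ψ j₀) _).symm
      · exact (Matrix.single_one_vecMul j Q).symm
    have hMk : (M₀ : Matrix (Fin a × Fin b) (Fin a × Fin b) F) = Ψ ⊗ₖ Qᵀ := by
      refine Matrix.toLin'.injective (LinearMap.ext fun x => ?_)
      have h := hform (flat.symm x)
      rw [hg, mmap_apply, LinearEquiv.apply_symm_apply] at h
      rw [Matrix.toLin'_apply, Matrix.toLin'_apply, ← LinearEquiv.apply_symm_apply flat (_ *ᵥ x), h]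
      funext ⟨i, j⟩
      show (Ψ * flat.symm x * Q) i j = ((Ψ ⊗ₖ Qᵀ) *ᵥ x) (i, j)
      simp only [Matrix.mulVec, dotProduct, Fintype.sum_prod_type, Matrix.mul_apply,
        Matrix.kroneckerMap_apply, Matrix.transpose_apply, Finset.sum_mul]
      rw [Finset.sum_comm]
      refine Finset.sum_congr rfl fun k _ => Finset.sum_congr rfl fun l _ => ?_
      show Ψ i k * x (k, l) * Q l j = Ψ i k * Q l j * x (k, l)
      ring
    have hdet : IsUnit (Ψ ⊗ₖ Qᵀ).det := hMk ▸ (Matrix.isUnit_iff_isUnit_det _).1 M₀.isUnit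
    rw [Matrix.det_kronecker, IsUnit.mul_iff, Fintype.card_fin, Fintype.card_fin,
      isUnit_pow_iff (by omega), isUnit_pow_iff (by omega)] at hdet
    exact hnk ⟨((Matrix.isUnit_iff_isUnit_det Ψ).2 hdet.1).unit,
      ((Matrix.isUnit_iff_isUnit_det Qᵀ).2 hdet.2).unit, hMk⟩
  obtain ⟨g, ⟨M, hM, rfl⟩, hgX⟩ := tr_all O hW hnp (Pi.single q.1 1) (c • Pi.single p.1 1)
    (Pi.single q.2 1) (Pi.single p.2 1) (by
      simp only [dotProduct_smul, single_one_dotProduct, Pi.single_apply, smul_eq_mul]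
      have : q.1 ≠ p.1 ∨ q.2 ≠ p.2 := by
        by_contra h
        push Not at h
        exact hpq (Prod.ext h.1.symm h.2.symm)
      rcases this with h | h
      · rw [if_neg h, mul_zero, zero_mul]
      · simp [h, Ne.symm h])
  refine ⟨M, hM, ?_⟩
  refine Matrix.toLin'.injective (LinearMap.ext fun x => ?_)
  have h := congrArg flat (hgX (flat.symm x))
  rw [mmap_apply, LinearEquiv.apply_symm_apply, LinearEquiv.apply_symm_apply] at h
  rw [Matrix.toLin'_apply, Matrix.toLin'_apply, h, Matrix.transvection, Matrix.add_mulVec,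
    Matrix.one_mulVec, Matrix.single_mulVec]
  funext ⟨i, j⟩
  show x (i, j) + (((Pi.single q.1 1 : Fin a → F) ⬝ᵥ (flat.symm x *ᵥ Pi.single q.2 1)) •
    vecMulVec (c • (Pi.single p.1 1 : Fin a → F)) (Pi.single p.2 1 : Fin b → F)) i j = _
  rw [single_one_dotProduct, Matrix.mulVec_single_one]
  simp only [Matrix.smul_apply, vecMulVec_apply, Pi.smul_apply, smul_eq_mul, Pi.add_apply,
    Pi.single_apply, Function.update_apply, Pi.zero_apply, Prod.ext_iff]
  show x (i, j) + x (q.1, q.2) * (c * (if i = p.1 then 1 else 0) * if j = p.2 then 1 else 0) = _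
  by_cases h1 : i = p.1 <;> by_cases h2 : j = p.2 <;> simp [h1, h2, mul_comm]

open Cfsg.Geo CfsgLib.Aschbacher in
/-- The stabiliser of a tensor decomposition is maximal. -/
theorem tensor_maximal {n : ℕ} (h2 : 2 ≤ a) (hab : a < b) (hsmall : a ≠ 2 ∨ ∃ t : F, t ≠ 0 ∧ t ≠ 1)
    (e : Fin n ≃ Fin a × Fin b) (P : GL (Fin n) F) :
    IsMaximalIn (specialLinear (Fin n) F) (tensorProductSubgroup a b e P ⊓ specialLinear (Fin n) F) := by
  have hnot := not_le_tensorProductSubgroup h2 (h2.trans hab.le) e P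
  refine ⟨lt_of_le_of_ne inf_le_right fun h => hnot (h ▸ inf_le_left), fun G hG hGS => ?_⟩
  by_cases hin : G ≤ tensorProductSubgroup a b e P
  · exact Or.inl (le_antisymm (le_inf hin hGS) hG)
  refine Or.inr (le_antisymm hGS ?_)
  rw [tensorProductSubgroup, map_glReindex_conj] at hG hin
  have hdet : ∀ g : GL (Fin a × Fin b) F, ((frU e P g : GL (Fin n) F) : Matrix (Fin n) (Fin n) F).det
      = (g : Matrix (Fin a × Fin b) (Fin a × Fin b) F).det := fun g => by
    rw [frU_val, frAlg_apply, Matrix.det_units_conj, Matrix.det_submatrix_equiv_self]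
  let K := G.comap (frU e P).toMonoidHom
  have htrans : ∀ {p q : Fin a × Fin b}, p ≠ q → ∀ c : F, ∃ M ∈ K,
      (M : Matrix (Fin a × Fin b) (Fin a × Fin b) F) = Matrix.transvection p q c := fun hpq c =>
    over_kron (K := K) h2 hab hsmall
    (fun M A B hA hB hM => by
      refine hG ⟨⟨M, ⟨((Matrix.isUnit_iff_isUnit_det A).2 (by rw [hA]; exact isUnit_one)).unit,
        ((Matrix.isUnit_iff_isUnit_det B).2 (by rw [hB]; exact isUnit_one)).unit, hM⟩, rfl⟩,
        MonoidHom.mem_ker.2 (Units.ext ?_)⟩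
      show ((frU e P M : GL (Fin n) F) : Matrix (Fin n) (Fin n) F).det = 1
      rw [hdet, hM, Matrix.det_kronecker, hA, hB, one_pow, one_pow, one_mul])
    (fun hle => hin fun g hg => ⟨(frU e P).symm g, hle (show frU e P ((frU e P).symm g) ∈ G by
      rwa [MulEquiv.apply_symm_apply]), MulEquiv.apply_symm_apply _ _⟩) hpq c
  intro M hM
  have hn : 2 ≤ n := by
    have := Fintype.card_congr e
    simp only [Fintype.card_fin, Fintype.card_prod] at this
    rw [this]
    exact h2.trans (Nat.le_mul_of_pos_right a (by omega))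
  let T : Subgroup (Matrix.SpecialLinearGroup (Fin n) F) :=
    (G.comap (MulAut.conj P).toMonoidHom).comap
      (Matrix.SpecialLinearGroup.toGL : Matrix.SpecialLinearGroup (Fin n) F →* GL (Fin n) F)
  have hT : T = ⊤ := by
    rw [eq_top_iff, ← CfsgLib.StSL.closure_transvection_eq_top (K := F) (n := n) hn, Subgroup.closure_le]
    rintro _ ⟨i, j, hij, c, rfl⟩
    obtain ⟨N, hN, hNv⟩ := htrans (e.injective.ne hij) c
    show MulAut.conj P (Matrix.SpecialLinearGroup.toGL _) ∈ G
    convert (show frU e P N ∈ G from hN) using 1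
    refine congrArg (MulAut.conj P) (Units.ext ?_)
    show Matrix.transvection i j c = _
    have : ((Cfsg.Geo.glReindex e.symm N : GL (Fin n) F) : Matrix (Fin n) (Fin n) F)
        = (N : Matrix (Fin a × Fin b) (Fin a × Fin b) F).submatrix e e := by
      simp [Cfsg.Geo.glReindex]
    refine Eq.trans ?_ this.symm
    rw [hNv]
    ext k l
    simp [Matrix.transvection, Matrix.one_apply, Matrix.single_apply]
  have hMd : ((P⁻¹ * M * P : GL (Fin n) F) : Matrix (Fin n) (Fin n) F).det = 1 := by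
    have h : (M : Matrix (Fin n) (Fin n) F).det = 1 := by
      simpa using congrArg Units.val (MonoidHom.mem_ker.1 hM)
    rw [Units.val_mul, Units.val_mul, Matrix.det_units_conj', h]
  obtain ⟨Ms, hMs⟩ : ∃ Ms : Matrix.SpecialLinearGroup (Fin n) F,
      Ms.1 = ((P⁻¹ * M * P : GL (Fin n) F) : Matrix (Fin n) (Fin n) F) :=
    ⟨⟨_, hMd⟩, rfl⟩
  have h := Subgroup.mem_comap.1 (hT ▸ Subgroup.mem_top Ms : Ms ∈ T)
  rw [Subgroup.mem_comap, show Matrix.SpecialLinearGroup.toGL Ms = P⁻¹ * M * P from Units.ext hMs] at h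
  simpa [mul_assoc] using h

end CfsgLib.MaxSub.TensorLin
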